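import Cfsg.Agent.H531.RealMove
import Cfsg.Agent.H967.CopChev
import Cfsg.Agent.ChevalleyStructure.SL2All

/-!
# `RealMove` for the Chevalley groups `G₂`, `F₄`, `E₆`, `E₇`, `E₈`
-/

set_option autoImplicit false

namespace Cfsg.Agent.H531.RMChev

open Cfsg.Lie Cfsg.Agent.H967.CopMat Cfsg.Agent.H967.CopRow Cfsg.Agent.H967.CopChev
  Cfsg.Agent.ChevStructure.FieldMap Cfsg.Agent.ChevalleyStructure Cfsg.Agent.ChevalleyStructure.Elts

universe v

/-- The homomorphism `SL₂(F) → D(F)` of a root. -/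
noncomputable def psi {D : ChevalleyDatum} (hD : InList D) {r : ℕ} (hr : r < D.nroots) (F : Type v) [Field F] :
    Matrix.SpecialLinearGroup (Fin 2) F →* ↥(D.group F) :=
  (SL2Hom.phi (SL2All.good_of_mem D hD r hr) F).codRestrict (D.group F) (fun g => by
    refine (Subgroup.closure_le ((D.group F).comap (SL2Hom.phi (SL2All.good_of_mem D hD r hr) F))).2 ?_
      (SL2Hom.mem_closure_SL2 g)
    rintro x (⟨t, rfl⟩ | ⟨t, rfl⟩)
    · have h1 : SL2Hom.phi (SL2All.good_of_mem D hD r hr) F (SL2Hom.up t) = xG hD r t :=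
        Units.ext (SL2Hom.phi_upper _ _ t rfl)
      show SL2Hom.phi (SL2All.good_of_mem D hD r hr) F (SL2Hom.up t) ∈ D.group F
      rw [h1]
      exact xG_mem_group hD r t
    · have h1 : SL2Hom.phi (SL2All.good_of_mem D hD r hr) F (SL2Hom.lo t) = xG hD (D.neg r) t :=
        Units.ext (SL2Hom.phi_lower _ _ t rfl)
      show SL2Hom.phi (SL2All.good_of_mem D hD r hr) F (SL2Hom.lo t) ∈ D.group F
      rw [h1]
      exact xG_mem_group hD (D.neg r) t)

theorem psi_up {D : ChevalleyDatum} (hD : InList D) {r : ℕ} (hr : r < D.nroots) {F : Type v} [Field F] (t : F) :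
    ((psi hD hr F (SL2Hom.up t) : ↥(D.group F)) : GL D.Idx F) = xG hD r t :=
  Units.ext (SL2Hom.phi_upper _ _ t rfl)

theorem psi_lo {D : ChevalleyDatum} (hD : InList D) {r : ℕ} (hr : r < D.nroots) {F : Type v} [Field F] (t : F) :
    ((psi hD hr F (SL2Hom.lo t) : ↥(D.group F)) : GL D.Idx F) = xG hD (D.neg r) t :=
  Units.ext (SL2Hom.phi_lower _ _ t rfl)

theorem map_xG {D : ChevalleyDatum} (hD : InList D) {F : Type v} [Field F] (τ : F ≃+* F) (r : ℕ) (t : F) :
    Matrix.GeneralLinearGroup.map (τ : F →+* F) (xG hD r t : GL D.Idx F) = xG hD r (τ t) := by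
  refine Units.ext ?_
  show (D.x F r t).map (τ : F →+* F) = D.x F r (τ t)
  exact x_map D (τ : F →+* F) r t

theorem realMove {D : ChevalleyDatum} (hD : InList D) {F : Type v} [Field F] [Finite F]
    (R : Row (D.group F)) (h2 : 2 ∣ Nat.card ↥(D.group F)) : RealMove ↥(D.group F) := by
  have hr := nroots_pos hD
  refine RealMove.of_sl' h2 (fieldAut R.stab) (FieldConj.of_row R) (psi hD hr F) ?_ ?_ ?_
  · intro τ t
    apply Subtype.ext
    rw [coe_fieldAut, psi_up, psi_up, map_xG]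
  · intro τ t
    apply Subtype.ext
    rw [coe_fieldAut, psi_lo, psi_lo, map_xG]
  · intro t ht
    have h1 := congrArg Subtype.val ht
    rw [psi_up] at h1
    exact (xG_eq_one_iff hD hr t).1 h1

end Cfsg.Agent.H531.RMChev
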