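import Cfsg.Agent.H531.Cover

/-!
# Two primes never jointly dividing a class size (Itô)

* `exists_sylow_le` : a subgroup of index prime to `p` contains a Sylow `p`-subgroup.
* `normalizer_le_or` : if no class size is divisible by `p` and by `q`, then
  `N(P) ≤ C(P)` or `N(Q) ≤ C(Q)` for Sylow subgroups `P`, `Q`.
-/

set_option autoImplicit false

namespace Cfsg.Agent.H531.TwoPrimes

open Cfsg.Agent.H531.Cover
open scoped Pointwise

variable {G : Type*} [Group G] [Finite G]

/-- A subgroup of index prime to `p` contains a Sylow `p`-subgroup of the group. -/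
theorem exists_sylow_le {p : ℕ} [Fact p.Prime] {H : Subgroup G} (h : ¬ p ∣ H.index) :
    ∃ P : Sylow p G, (P : Subgroup G) ≤ H := by
  obtain ⟨R⟩ : Nonempty (Sylow p H) := inferInstance
  have hR : IsPGroup p ((R : Subgroup H).map H.subtype) := R.isPGroup'.map _
  obtain ⟨P, hP⟩ := hR.exists_le_sylow
  have hcard : Nat.card P ≤ Nat.card ((R : Subgroup H).map H.subtype) := by
    rw [Subgroup.card_map_of_injective H.subtype_injective]
    rw [Sylow.card_eq_multiplicity P, Sylow.card_eq_multiplicity R]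
    have e : Nat.card G = Nat.card H * H.index := (Subgroup.card_mul_index H).symm
    have hH0 : Nat.card H ≠ 0 := Nat.card_pos.ne'
    have hi0 : H.index ≠ 0 := Subgroup.index_ne_zero_of_finite
    rw [e, Nat.factorization_mul hH0 hi0, Finsupp.add_apply,
      Nat.factorization_eq_zero_of_not_dvd h, add_zero]
  have hEq : (R : Subgroup H).map H.subtype = P :=
    Subgroup.eq_of_le_of_card_ge hP hcard
  exact ⟨P, by rw [← hEq]; exact Subgroup.map_subtype_le _⟩

/-- If the class of `x` has size prime to `p` then `x` is conjugate into `C(P)`. -/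
theorem conj_mem_centralizer {p : ℕ} [Fact p.Prime] (P : Sylow p G) {x : G}
    (h : ¬ p ∣ (Subgroup.centralizer ({x} : Set G)).index) :
    ∃ g : G, g * x * g⁻¹ ∈ Subgroup.centralizer ((P : Subgroup G) : Set G) := by
  obtain ⟨Q, hQ⟩ := exists_sylow_le h
  obtain ⟨g, hg⟩ := MulAction.exists_smul_eq G Q P
  refine ⟨g, ?_⟩
  rw [Subgroup.mem_centralizer_iff]
  intro y hy
  have hy' : y ∈ (g • Q : Sylow p G) := by rw [hg]; exact hy
  have hy2 : g⁻¹ * y * g ∈ (Q : Subgroup G) := by
    have h3 : y ∈ MulAut.conj g • (Q : Subgroup G) := hy'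
    rw [Subgroup.mem_pointwise_smul_iff_inv_smul_mem] at h3
    simpa [MulAut.smul_def, MulAut.conj_inv_apply, mul_assoc] using h3
  have h4 := hQ hy2
  rw [Subgroup.mem_centralizer_singleton_iff] at h4
  calc y * (g * x * g⁻¹) = g * ((g⁻¹ * y * g) * x) * g⁻¹ := by group
    _ = g * (x * (g⁻¹ * y * g)) * g⁻¹ := by rw [h4]
    _ = (g * x * g⁻¹) * y := by group

omit [Finite G] in
theorem normalizer_centralizer_of_eq {H : Subgroup G}
    (h : Subgroup.normalizer ((Subgroup.centralizer (H : Set G) : Subgroup G) : Set G) =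
      Subgroup.centralizer (H : Set G)) :
    Subgroup.normalizer (H : Set G) ≤ Subgroup.centralizer (H : Set G) := by
  rw [← h]
  intro n hn
  rw [Subgroup.mem_normalizer_iff] at hn ⊢
  have key : ∀ m : G, (∀ k, k ∈ H ↔ m * k * m⁻¹ ∈ H) → ∀ c : G,
      c ∈ Subgroup.centralizer (H : Set G) → m * c * m⁻¹ ∈ Subgroup.centralizer (H : Set G) := by
    intro m hm c hc
    rw [Subgroup.mem_centralizer_iff] at hc ⊢
    intro y hy
    have hy2 : m⁻¹ * y * m ∈ H := by
      rw [hm]
      simpa [mul_assoc] using hy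
    have h4 := hc _ hy2
    calc y * (m * c * m⁻¹) = m * ((m⁻¹ * y * m) * c) * m⁻¹ := by group
      _ = m * (c * (m⁻¹ * y * m)) * m⁻¹ := by rw [h4]
      _ = (m * c * m⁻¹) * y := by group
  intro c
  refine ⟨key n hn c, fun hc => ?_⟩
  have := key n⁻¹ (fun k => by
    rw [hn (n⁻¹ * k * n⁻¹⁻¹)]
    simp [mul_assoc]) _ hc
  simpa [mul_assoc] using this

/-- **Itô**: if no class size is divisible by `p` and by `q`, then `N(P) ≤ C(P)` or
`N(Q) ≤ C(Q)`. -/
theorem normalizer_le_or {p q : ℕ} [Fact p.Prime] [Fact q.Prime] (P : Sylow p G) (Q : Sylow q G)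
    (h : ∀ x : G, ¬ p ∣ (Subgroup.centralizer ({x} : Set G)).index ∨
      ¬ q ∣ (Subgroup.centralizer ({x} : Set G)).index) :
    Subgroup.normalizer ((P : Subgroup G) : Set G) ≤
        Subgroup.centralizer ((P : Subgroup G) : Set G) ∨
      Subgroup.normalizer ((Q : Subgroup G) : Set G) ≤
        Subgroup.centralizer ((Q : Subgroup G) : Set G) := by
  rcases normalizer_eq_or (Subgroup.centralizer ((P : Subgroup G) : Set G))
    (Subgroup.centralizer ((Q : Subgroup G) : Set G))
    (fun x => (h x).imp (conj_mem_centralizer P) (conj_mem_centralizer Q)) with h1 | h1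
  · exact Or.inl (normalizer_centralizer_of_eq h1)
  · exact Or.inr (normalizer_centralizer_of_eq h1)

end Cfsg.Agent.H531.TwoPrimes
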