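import Mathlib
import Cfsg.Agent.H254.CopConj
import Cfsg.Agent.H254.CopTriv
import Cfsg.Agent.H967.CopRow
import Cfsg.Agent.ChevalleyStructure.SL2Hom

/-!
# Coprime automorphisms move a real cyclic subgroup

`RealMove K` : every automorphism `α` of `K` of prime order not dividing `|K|` normalises, but does not centralise,
some cyclic subgroup `⟨x⟩` with `x` inverted by an element of `K`.

* `RealMove.of_equiv`, `RealMove.of_copTriv`;
* `RealMove.of_field`, `RealMove.of_field_units`, `RealMove.of_sl` : the case of field automorphisms: a homomorphism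
  from a subgroup `U` of `Fˣ` (or from `Fˣ`, or from `SL₂(F)`) to `K`, equivariant under the field automorphisms,
  with all `h u` real.
-/

set_option autoImplicit false

namespace Cfsg.Agent.H531

open Cfsg.Agent.H254 Cfsg.Agent.ChevalleyStructure.SL2Hom

universe u v

/-- Every automorphism of `K` of prime order not dividing `|K|` normalises and does not centralise some cyclic
subgroup whose generator is inverted by an element of `K`. -/
def RealMove (K : Type*) [Group K] : Prop :=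
  ∀ (p : ℕ) (α : MulAut K), p.Prime → ¬ p ∣ Nat.card K → α ^ p = 1 → α ≠ 1 →
    ∃ x t : K, α x ∈ Subgroup.zpowers x ∧ α x ≠ x ∧ t * x * t⁻¹ = x⁻¹

theorem RealMove.of_equiv {K : Type u} [Group K] {L : Type v} [Group L] (e : K ≃* L) (h : RealMove K) :
    RealMove L := by
  intro p α hp hpL hα hne
  have hcard : Nat.card K = Nat.card L := Nat.card_congr e.toEquiv
  obtain ⟨x, t, h1, h2, h3⟩ := h p ((MulAut.congr e).symm α) hp (by rw [hcard]; exact hpL)
    (by rw [← map_pow, hα, map_one]) (by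
      intro h
      apply hne
      have := congrArg (MulAut.congr e) h
      rwa [MulEquiv.apply_symm_apply, map_one] at this)
  have h4 : (MulAut.congr e).symm α x = e.symm (α (e x)) := rfl
  rw [h4] at h1 h2
  refine ⟨e x, e t, ?_, ?_, ?_⟩
  · obtain ⟨k, hk⟩ := Subgroup.mem_zpowers_iff.1 h1
    refine Subgroup.mem_zpowers_iff.2 ⟨k, ?_⟩
    rw [← map_zpow, hk, MulEquiv.apply_symm_apply]
  · intro h
    apply h2
    rw [h, MulEquiv.symm_apply_apply]
  · rw [← map_mul, ← map_inv, ← map_mul, h3, map_inv]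

/-- If the moved real cyclic subgroups exist for the powers of `σ`, they exist for all coprime automorphisms. -/
theorem RealMove.of_copIn' {K : Type u} [Group K] {σ : MulAut K} (h : CopIn K σ)
    (hm : ∀ (p : ℕ) (k : ℤ), p.Prime → ¬ p ∣ Nat.card K → (σ ^ k) ^ p = 1 → σ ^ k ≠ 1 →
      ∃ x t : K, (σ ^ k) x ∈ Subgroup.zpowers x ∧ (σ ^ k) x ≠ x ∧ t * x * t⁻¹ = x⁻¹) : RealMove K := by
  intro p α hp hpK hα hne
  have hpf : Fact p.Prime := ⟨hp⟩
  have ho : orderOf α = p := orderOf_eq_prime hα hne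
  have hcop : (Nat.card (Subgroup.zpowers α)).Coprime (Nat.card K) := by
    rw [Nat.card_zpowers, ho]
    exact (Nat.Prime.coprime_iff_not_dvd hp).2 hpK
  obtain ⟨g, hg⟩ := h (Subgroup.zpowers α) hcop
  have h1 : MulAut.conj g α ∈ Subgroup.zpowers σ := hg ⟨α, Subgroup.mem_zpowers α, rfl⟩
  obtain ⟨k, hk⟩ := Subgroup.mem_zpowers_iff.1 h1
  rw [MulAut.conj_apply] at hk
  have h2 : α = g⁻¹ * σ ^ k * g := by rw [hk]; group
  obtain ⟨x, t, h3, h4, h5⟩ := hm p k hp hpK
    (by rw [hk, conj_pow, hα, mul_one, mul_inv_cancel])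
    (by
      intro h
      rw [h, mul_one, inv_mul_cancel] at h2
      exact hne h2)
  have h6 : α (g⁻¹ x) = g⁻¹ ((σ ^ k) x) := by
    rw [h2]
    show g⁻¹ ((σ ^ k) (g (g⁻¹ x))) = _
    rw [MulAut.apply_inv_self]
  refine ⟨g⁻¹ x, g⁻¹ t, ?_, ?_, ?_⟩
  · rw [h6]
    obtain ⟨j, hj⟩ := Subgroup.mem_zpowers_iff.1 h3
    refine Subgroup.mem_zpowers_iff.2 ⟨j, ?_⟩
    rw [← map_zpow, hj]
  · rw [h6]
    intro h
    exact h4 (g⁻¹.injective h)
  · rw [← map_mul, ← map_inv, ← map_mul, h5, map_inv]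

/-- Every automorphism of `K` of order prime to `|K|` is conjugate in `Aut K` to some `φ τ` (`φ τ` being the
automorphism of `K` induced by the field automorphism `τ`). -/
def FieldConj {K : Type*} [Group K] {F : Type*} [Field F] (φ : (F ≃+* F) →* MulAut K) : Prop :=
  ∀ α : MulAut K, (orderOf α).Coprime (Nat.card K) → ∃ (g : MulAut K) (τ : F ≃+* F), g * α * g⁻¹ = φ τ

theorem FieldConj.of_copIn {K : Type*} [Group K] {F : Type*} [Field F] (φ : (F ≃+* F) →* MulAut K) {ρ : F ≃+* F}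
    (h : CopIn K (φ ρ)) : FieldConj φ := by
  intro α hα
  obtain ⟨g, hg⟩ := h (Subgroup.zpowers α) (by rw [Nat.card_zpowers]; exact hα)
  have h1 : MulAut.conj g α ∈ Subgroup.zpowers (φ ρ) := hg ⟨α, Subgroup.mem_zpowers α, rfl⟩
  obtain ⟨k, hk⟩ := Subgroup.mem_zpowers_iff.1 h1
  rw [MulAut.conj_apply, ← map_zpow] at hk
  exact ⟨g, ρ ^ k, hk.symm⟩

theorem FieldConj.of_row {ι : Type*} [Fintype ι] [DecidableEq ι] {F : Type*} [Field F]
    {G : Subgroup (Matrix.GeneralLinearGroup ι F)} (R : H967.CopRow.Row G) :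
    FieldConj (H967.CopMat.fieldAut R.stab) := by
  intro α hα
  obtain ⟨g, σ, h⟩ := R.conj (Subgroup.zpowers α) (by rw [Nat.card_zpowers]; exact hα)
  have h1 : MulAut.conj g α ∈ Subgroup.zpowers (H967.CopMat.fieldAut R.stab σ) := by
    rw [← h]
    exact ⟨α, Subgroup.mem_zpowers α, rfl⟩
  obtain ⟨k, hk⟩ := Subgroup.mem_zpowers_iff.1 h1
  rw [MulAut.conj_apply, ← map_zpow] at hk
  exact ⟨g, σ ^ k, hk.symm⟩

/-- If every coprime automorphism is conjugate to one which moves a real cyclic subgroup, `RealMove` holds. -/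
theorem RealMove.of_conj {K : Type u} [Group K]
    (h : ∀ (p : ℕ) (α : MulAut K), p.Prime → ¬ p ∣ Nat.card K → α ^ p = 1 → α ≠ 1 → ∃ (g β : MulAut K),
      g * α * g⁻¹ = β ∧ (β ^ p = 1 → β ≠ 1 →
        ∃ x t : K, β x ∈ Subgroup.zpowers x ∧ β x ≠ x ∧ t * x * t⁻¹ = x⁻¹)) : RealMove K := by
  intro p α hp hpK hα hne
  obtain ⟨g, β, hk, hm⟩ := h p α hp hpK hα hne
  have h2 : α = g⁻¹ * β * g := by rw [← hk]; group
  obtain ⟨x, t, h3, h4, h5⟩ := hm
    (by rw [← hk, conj_pow, hα, mul_one, mul_inv_cancel])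
    (by
      intro h
      rw [h, mul_one, inv_mul_cancel] at h2
      exact hne h2)
  have h6 : α (g⁻¹ x) = g⁻¹ (β x) := by
    rw [h2]
    show g⁻¹ (β (g (g⁻¹ x))) = _
    rw [MulAut.apply_inv_self]
  refine ⟨g⁻¹ x, g⁻¹ t, ?_, ?_, ?_⟩
  · rw [h6]
    obtain ⟨j, hj⟩ := Subgroup.mem_zpowers_iff.1 h3
    refine Subgroup.mem_zpowers_iff.2 ⟨j, ?_⟩
    rw [← map_zpow, hj]
  · rw [h6]
    intro h
    exact h4 (g⁻¹.injective h)
  · rw [← map_mul, ← map_inv, ← map_mul, h5, map_inv]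

/-- **Criterion for field automorphisms.** `φ ρ` is the automorphism of `K` induced by the field automorphism `ρ`
(a homomorphism in `ρ`), `h` a homomorphism from a subgroup `U` of `Fˣ` to `K` commuting with the field automorphisms,
all `h u` are real, `h u ≠ 1` if `u ^ 2 ≠ 1`, and `U` is not centralised by field automorphisms inducing a
non-trivial automorphism of `K` of order prime to `|K|`. -/
theorem RealMove.of_field {K : Type u} [Group K] {F : Type v} [Field F] [Finite F] (h2 : 2 ∣ Nat.card K)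
    (φ : (F ≃+* F) →* MulAut K) (hco : FieldConj φ) (U : Subgroup Fˣ) (h : U →* K)
    (hφ : ∀ (τ : F ≃+* F) (u u' : U), ((u' : Fˣ) : F) = τ ((u : Fˣ) : F) → φ τ (h u) = h u')
    (hker : ∀ u : U, h u = 1 → u ^ 2 = 1) (hreal : ∀ u : U, ∃ t : K, t * h u * t⁻¹ = (h u)⁻¹)
    (c : ℕ) (hc : ∀ p : ℕ, p.Prime → p ∣ c → p ∣ Nat.card K)
    (hU : ∀ τ : F ≃+* F, (∀ u ∈ U, τ ((u : Fˣ) : F) = u) → φ τ ^ c = 1) : RealMove K := by
  refine RealMove.of_conj ?_
  intro p α hp hpK hα hαne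
  have hpf : Fact p.Prime := ⟨hp⟩
  have ho : orderOf α = p := orderOf_eq_prime hα hαne
  obtain ⟨g, τ, hg⟩ := hco α (by rw [ho]; exact (Nat.Prime.coprime_iff_not_dvd hp).2 hpK)
  refine ⟨g, φ τ, hg, ?_⟩
  intro hpow hne
  -- a generator of `U`
  obtain ⟨m, hm⟩ := MonoidHom.map_cyclic (Units.map (τ : F →* F))
  have hcyc : IsCyclic U := inferInstance
  obtain ⟨u, hu⟩ := IsCyclic.exists_generator (α := U)
  have h3 : φ τ (h u) = h u ^ m := by
    rw [← map_zpow]
    apply hφ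
    have := congrArg Units.val (hm (u : Fˣ))
    rw [Subgroup.coe_zpow]
    rw [← this]
    rfl
  obtain ⟨t, ht⟩ := hreal u
  refine ⟨h u, t, ?_, ?_, ht⟩
  · rw [h3]
    exact Subgroup.zpow_mem _ (Subgroup.mem_zpowers _) _
  · intro h4
    have h5 : (u ^ (m - 1)) ^ 2 = 1 := by
      apply hker
      rw [map_zpow, zpow_sub_one, ← h3, h4, mul_inv_cancel]
    have h7 : τ (((u : Fˣ) : F)) = ((u : Fˣ) : F) * (((u ^ (m - 1) : U) : Fˣ) : F) := by
      have h8 := congrArg Units.val (hm (u : Fˣ))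
      have h9 : ((u : Fˣ)) ^ m = (u : Fˣ) * ((u ^ (m - 1) : U) : Fˣ) := by
        rw [Subgroup.coe_zpow, zpow_sub_one, mul_comm, inv_mul_cancel_right]
      rw [h9] at h8
      exact h8
    have h10 : (((u ^ (m - 1) : U) : Fˣ) : F) ^ 2 = 1 := by
      have := congrArg (fun z : U => (((z : Fˣ)) : F)) h5
      simpa using this
    have h11 : τ (τ (((u : Fˣ) : F))) = ((u : Fˣ) : F) := by
      have h12 : τ ((((u ^ (m - 1) : U) : Fˣ) : F)) = (((u ^ (m - 1) : U) : Fˣ) : F) := by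
        rcases (sq_eq_one_iff.1 h10) with h | h
        · rw [h, map_one]
        · rw [h, map_neg, map_one]
      rw [h7, map_mul, h12, h7, mul_assoc, ← sq, h10, mul_one]
    have h6 : (φ (τ ^ 2)) ^ c = 1 := by
      apply hU
      intro v hv
      obtain ⟨k, hk⟩ := Subgroup.mem_zpowers_iff.1 (hu ⟨v, hv⟩)
      have h13 : Units.map ((τ ^ 2 : F ≃+* F) : F →* F) (u : Fˣ) = (u : Fˣ) := Units.ext h11
      have h14 : Units.map ((τ ^ 2 : F ≃+* F) : F →* F) ((u : Fˣ) ^ k) = (u : Fˣ) ^ k := by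
        rw [map_zpow, h13]
      have h15 : v = (u : Fˣ) ^ k := by
        have := congrArg Subtype.val hk
        simpa using this.symm
      rw [h15]
      exact congrArg Units.val h14
    rw [map_pow, ← pow_mul] at h6
    have h16 : Nat.Coprime p (2 * c) := by
      rw [Nat.Prime.coprime_iff_not_dvd hp]
      intro h
      rcases hp.dvd_mul.1 h with h | h
      · rw [(Nat.prime_dvd_prime_iff_eq hp Nat.prime_two).1 h] at hpK
        exact hpK h2
      · exact hpK (hc p hp h)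
    apply hne
    have h17 : orderOf (φ τ) ∣ Nat.gcd p (2 * c) :=
      Nat.dvd_gcd (orderOf_dvd_of_pow_eq_one hpow) (orderOf_dvd_of_pow_eq_one h6)
    rw [h16] at h17
    exact orderOf_eq_one_iff.1 (Nat.dvd_one.1 h17)

/-- **Criterion**, one dimensional version: `U = Fˣ`. -/
theorem RealMove.of_field_units {K : Type u} [Group K] {F : Type v} [Field F] [Finite F] (h2 : 2 ∣ Nat.card K)
    (φ : (F ≃+* F) →* MulAut K) (hco : FieldConj φ) (h : Fˣ →* K)
    (hφ : ∀ (τ : F ≃+* F) (u : Fˣ), φ τ (h u) = h (Units.map (τ : F →* F) u))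
    (hker : ∀ u : Fˣ, h u = 1 → u ^ 2 = 1) (hreal : ∀ u : Fˣ, ∃ t : K, t * h u * t⁻¹ = (h u)⁻¹) : RealMove K := by
  refine RealMove.of_field h2 φ hco ⊤ (h.comp (Subgroup.subtype ⊤)) ?_ ?_ ?_ 1 ?_ ?_
  · intro τ u u' hu
    show φ τ (h (u : Fˣ)) = h (u' : Fˣ)
    rw [hφ]
    congr 1
    exact Units.ext hu.symm
  · intro u hu
    exact Subtype.ext (hker (u : Fˣ) hu)
  · intro u
    exact hreal (u : Fˣ)
  · intro p hp hd
    exact absurd (Nat.dvd_one.1 hd) hp.one_lt.ne'
  · intro τ hτ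
    have h1 : τ = 1 := by
      ext x
      rcases eq_or_ne x 0 with hx | hx
      · rw [hx, map_zero, map_zero]
      · exact hτ (Units.mk0 x hx) (Subgroup.mem_top _)
    rw [h1, map_one, one_pow]

/-- The diagonal torus of `SL₂`. -/
def diagSL (F : Type v) [Field F] : Fˣ →* Matrix.SpecialLinearGroup (Fin 2) F where
  toFun u := ⟨!![(u : F), 0; 0, ((u⁻¹ : Fˣ) : F)], by simp [Matrix.det_fin_two]⟩
  map_one' := by
    apply Subtype.ext
    simp [Matrix.one_fin_two]
  map_mul' u v := by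
    apply Subtype.ext
    show _ = !![(u : F), 0; 0, ((u⁻¹ : Fˣ) : F)] * !![(v : F), 0; 0, ((v⁻¹ : Fˣ) : F)]
    rw [Matrix.mul_fin_two]
    simp [mul_comm]

theorem diagSL_coe {F : Type v} [Field F] (u : Fˣ) :
    (diagSL F u : Matrix (Fin 2) (Fin 2) F) = !![(u : F), 0; 0, ((u⁻¹ : Fˣ) : F)] := rfl

/-- The Weyl element of `SL₂`. -/
def weylSL (F : Type v) [Field F] : Matrix.SpecialLinearGroup (Fin 2) F :=
  ⟨!![0, 1; -1, 0], by simp [Matrix.det_fin_two]⟩

theorem weylSL_conj {F : Type v} [Field F] (u : Fˣ) : weylSL F * diagSL F u * (weylSL F)⁻¹ = (diagSL F u)⁻¹ := by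
  rw [mul_inv_eq_iff_eq_mul, ← map_inv]
  apply Subtype.ext
  show !![(0 : F), 1; -1, 0] * !![(u : F), 0; 0, ((u⁻¹ : Fˣ) : F)] =
    !![((u⁻¹ : Fˣ) : F), 0; 0, (((u⁻¹)⁻¹ : Fˣ) : F)] * !![(0 : F), 1; -1, 0]
  rw [Matrix.mul_fin_two, Matrix.mul_fin_two]
  simp

/-- A torus element in the kernel of a homomorphism injective on the root group. -/
theorem sq_of_ker {K : Type u} [Group K] {F : Type v} [Field F] (s : Matrix.SpecialLinearGroup (Fin 2) F →* K)
    (hinj : ∀ t : F, s (up t) = 1 → t = 0) (u : Fˣ) (hu : s (diagSL F u) = 1) : u ^ 2 = 1 := by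
  have h1 : diagSL F u * up 1 * (diagSL F u)⁻¹ * (up 1)⁻¹ = up ((u : F) ^ 2 - 1) := by
    rw [mul_inv_eq_iff_eq_mul, mul_inv_eq_iff_eq_mul]
    apply Subtype.ext
    show !![(u : F), 0; 0, ((u⁻¹ : Fˣ) : F)] * !![1, 1; 0, 1] =
      !![1, (u : F) ^ 2 - 1; 0, 1] * !![1, 1; 0, 1] * !![(u : F), 0; 0, ((u⁻¹ : Fˣ) : F)]
    rw [Matrix.mul_fin_two, Matrix.mul_fin_two, Matrix.mul_fin_two]
    have h2 : (u : F) ≠ 0 := u.ne_zero
    ext i j
    fin_cases i <;> fin_cases j <;> simp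
    field_simp
  have h3 : s (up ((u : F) ^ 2 - 1)) = 1 := by
    rw [← h1]
    simp only [map_mul, map_inv, hu]
    group
  have h4 := hinj _ h3
  apply Units.ext
  show ((u ^ 2 : Fˣ) : F) = 1
  rw [Units.val_pow_eq_pow_val]
  exact sub_eq_zero.1 h4

theorem map_up {F : Type v} [Field F] (τ : F ≃+* F) (t : F) :
    Matrix.SpecialLinearGroup.map (τ : F →+* F) (up t) = up (τ t) := by
  apply Subtype.ext
  show (!![(1 : F), t; 0, 1]).map τ = !![(1 : F), τ t; 0, 1]
  ext i j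
  fin_cases i <;> fin_cases j <;> simp

theorem map_lo {F : Type v} [Field F] (τ : F ≃+* F) (t : F) :
    Matrix.SpecialLinearGroup.map (τ : F →+* F) (lo t) = lo (τ t) := by
  apply Subtype.ext
  show (!![(1 : F), 0; t, 1]).map τ = !![(1 : F), 0; τ t, 1]
  ext i j
  fin_cases i <;> fin_cases j <;> simp

/-- A homomorphism compatible with a field automorphism on the root groups is compatible on the torus. -/
theorem equivariant {K : Type u} [Group K] {F : Type v} [Field F] (s : Matrix.SpecialLinearGroup (Fin 2) F →* K)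
    (β : MulAut K) (τ : F ≃+* F) (hup : ∀ t : F, β (s (up t)) = s (up (τ t)))
    (hlo : ∀ t : F, β (s (lo t)) = s (lo (τ t))) (g : Matrix.SpecialLinearGroup (Fin 2) F) :
    β (s g) = s (Matrix.SpecialLinearGroup.map (τ : F →+* F) g) := by
  have hg := mem_closure_SL2 g
  induction hg using Subgroup.closure_induction with
  | mem x hx =>
    rcases hx with ⟨t, rfl⟩ | ⟨t, rfl⟩
    · rw [hup, map_up]
    · rw [hlo, map_lo]
  | one => rw [map_one, map_one, map_one, map_one]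
  | mul x y _ _ h1 h2 => rw [map_mul, map_mul, map_mul, map_mul, h1, h2]
  | inv x _ h1 => rw [map_inv, map_inv, map_inv, map_inv, h1]

theorem map_diagSL {F : Type v} [Field F] (τ : F ≃+* F) (u : Fˣ) :
    Matrix.SpecialLinearGroup.map (τ : F →+* F) (diagSL F u) = diagSL F (Units.map (τ : F →* F) u) := by
  apply Subtype.ext
  show (!![(u : F), 0; 0, ((u⁻¹ : Fˣ) : F)]).map τ =
    !![(τ (u : F)), 0; 0, (((Units.map (τ : F →* F) u)⁻¹ : Fˣ) : F)]
  rw [← map_inv]
  ext i j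
  fin_cases i <;> fin_cases j <;> simp

/-- **Criterion**, with `SL₂`: `s` is a homomorphism from `SL₂(F)` to `K` with kernel contained in `{±1}`. -/
theorem RealMove.of_sl {K : Type u} [Group K] {F : Type v} [Field F] [Finite F] (h2 : 2 ∣ Nat.card K)
    (φ : (F ≃+* F) →* MulAut K) (hco : FieldConj φ)
    (s : Matrix.SpecialLinearGroup (Fin 2) F →* K)
    (hφ : ∀ (τ : F ≃+* F) (u : Fˣ), φ τ (s (diagSL F u)) = s (diagSL F (Units.map (τ : F →* F) u)))
    (hinj : ∀ t : F, s (up t) = 1 → t = 0) : RealMove K := by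
  refine RealMove.of_field_units h2 φ hco (s.comp (diagSL F)) hφ ?_ ?_
  · intro u hu
    exact sq_of_ker s (hinj · ·) u hu
  · intro u
    refine ⟨s (weylSL F), ?_⟩
    show _ * s (diagSL F u) * _ = (s (diagSL F u))⁻¹
    rw [← map_inv, ← map_inv, ← map_mul, ← map_mul, weylSL_conj]

/-- **Criterion**, with `SL₂` and its root groups. -/
theorem RealMove.of_sl' {K : Type u} [Group K] {F : Type v} [Field F] [Finite F] (h2 : 2 ∣ Nat.card K)
    (φ : (F ≃+* F) →* MulAut K) (hco : FieldConj φ)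
    (s : Matrix.SpecialLinearGroup (Fin 2) F →* K)
    (hup : ∀ (τ : F ≃+* F) (t : F), φ τ (s (up t)) = s (up (τ t)))
    (hlo : ∀ (τ : F ≃+* F) (t : F), φ τ (s (lo t)) = s (lo (τ t)))
    (hinj : ∀ t : F, s (up t) = 1 → t = 0) : RealMove K :=
  RealMove.of_sl h2 φ hco s
    (fun τ u => by rw [equivariant s (φ τ) τ (hup τ) (hlo τ), map_diagSL]) hinj

theorem RealMove.of_copTriv {K : Type u} [Group K] (h : CopTriv K) : RealMove K := by
  intro p α hp hpK hα hne
  have hpf : Fact p.Prime := ⟨hp⟩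
  have ho : orderOf α = p := orderOf_eq_prime hα hne
  have hcop : (Nat.card (Subgroup.zpowers α)).Coprime (Nat.card K) := by
    rw [Nat.card_zpowers, ho]
    exact (Nat.Prime.coprime_iff_not_dvd hp).2 hpK
  exact absurd (Subgroup.zpowers_eq_bot.1 (h _ hcop)) hne

end Cfsg.Agent.H531
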