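import Cfsg.Agent.H531.RMPsp

/-!
# `RealMove` for the unitary groups
-/

set_option autoImplicit false

namespace Cfsg.Agent.H531.RMPsu

open Cfsg Cfsg.Agent.KFacts.MulOdd.TypeA Cfsg.Agent.ChevalleyStructure.SL2Hom
open Cfsg.Agent.LieClassical.HermBasic Cfsg.Agent.LieClassical.HermSiegel
  Cfsg.Agent.LieClassical.HermGen
  Cfsg.Agent.ClassicalGeometry.UnitAutBasic Cfsg.Agent.ClassicalGeometry.PSUAutCount
open Cfsg.Agent.H531.RMPsp Cfsg.Agent.H531.RMPsl
open scoped Matrix

universe v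

variable {F : Type v} [Field F] {n q : ℕ}

/-- The block of a `2 × 2` unitary matrix is unitary. -/
theorem blk_mem {a b : Fin n} (hab : a ≠ b) (g : Matrix.SpecialLinearGroup (Fin 2) F)
    (h : ∀ x y x' y' : F, (g.1 0 0 * x + g.1 0 1 * y) * (g.1 0 0 * x' + g.1 0 1 * y') ^ q +
      (g.1 1 0 * x + g.1 1 1 * y) * (g.1 1 0 * x' + g.1 1 1 * y') ^ q = x * x' ^ q + y * y' ^ q) :
    blk hab g ∈ SU n F q := by
  rw [LieClassical.SUBasic.mem_SU_iff]
  intro u w
  show hermForm n F q (NN a b g.1 *ᵥ u) (NN a b g.1 *ᵥ w) = hermForm n F q u w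
  show ∑ i, (NN a b g.1 *ᵥ u) i * (NN a b g.1 *ᵥ w) i ^ q = ∑ i, u i * w i ^ q
  have hsplit : ∀ f : Fin n → F, ∑ i, f i = f a + f b + ∑ i ∈ (Finset.univ.erase a).erase b, f i := by
    intro f
    rw [← Finset.add_sum_erase Finset.univ f (Finset.mem_univ a),
      ← Finset.add_sum_erase (Finset.univ.erase a) f (Finset.mem_erase.2 ⟨hab.symm, Finset.mem_univ b⟩), add_assoc]
  rw [hsplit, hsplit (fun i => u i * w i ^ q)]
  congr 1
  · rw [NN_mulVec_fst hab, NN_mulVec_fst hab, NN_mulVec_snd hab, NN_mulVec_snd hab]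
    exact h _ _ _ _
  · refine Finset.sum_congr rfl fun i hi => ?_
    rw [Finset.mem_erase, Finset.mem_erase] at hi
    rw [NN_mulVec_other _ _ hi.2.1 hi.1, NN_mulVec_other _ _ hi.2.1 hi.1]

/-- The norm one group. -/
def normOne (F : Type v) [Field F] (q : ℕ) : Subgroup Fˣ := (powMonoidHom (q + 1) : Fˣ →* Fˣ).ker

theorem mem_normOne {u : Fˣ} : u ∈ normOne F q ↔ u ^ (q + 1) = 1 := Iff.rfl

theorem card_normOne [Fintype F] (hF : Fintype.card F = q ^ 2) : Nat.card (normOne F q) = q + 1 := by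
  have hq : 1 ≤ q := by
    rcases Nat.eq_zero_or_pos q with h | h
    · subst h
      have := Fintype.card_pos (α := F)
      omega
    · exact h
  unfold normOne
  rw [IsCyclic.card_powMonoidHom_ker, Nat.card_units, Nat.card_eq_fintype_card, hF]
  apply Nat.gcd_eq_right
  refine ⟨q - 1, ?_⟩
  obtain ⟨k, rfl⟩ : ∃ k, q = k + 1 := ⟨q - 1, by omega⟩
  rw [Nat.add_sub_cancel]
  have : (k + 1) ^ 2 = (k + 1 + 1) * k + 1 := by ring
  rw [this, Nat.add_sub_cancel]

theorem diag_mem {a b : Fin n} (hab : a ≠ b) {u : Fˣ} (hu : u ∈ normOne F q) : blk hab (diagSL F u) ∈ SU n F q := by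
  apply blk_mem
  intro x y x' y'
  have h1 : (u : F) * (u : F) ^ q = 1 := by
    have := congrArg Units.val (mem_normOne.1 hu)
    rw [pow_succ'] at this
    exact this
  have h2 : (((u⁻¹ : Fˣ) : F)) * (((u⁻¹ : Fˣ) : F)) ^ q = 1 := by
    have := congrArg Units.val (mem_normOne.1 (inv_mem hu))
    rw [pow_succ'] at this
    exact this
  show ((u : F) * x + 0 * y) * ((u : F) * x' + 0 * y') ^ q +
    (0 * x + ((u⁻¹ : Fˣ) : F) * y) * (0 * x' + ((u⁻¹ : Fˣ) : F) * y') ^ q = _
  simp only [zero_mul, zero_add, add_zero, mul_pow]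
  linear_combination (x * x' ^ q) * h1 + (y * y' ^ q) * h2

theorem weyl_mem {a b : Fin n} (hab : a ≠ b) [Fintype F] (hF : Fintype.card F = q ^ 2) :
    blk hab (weylSL F) ∈ SU n F q := by
  apply blk_mem
  intro x y x' y'
  have h1 : (-1 : F) * (-1) ^ q = 1 := by
    rcases Nat.even_or_odd q with h | h
    · have h2 : (2 : F) = 0 := by
        by_contra h2
        have h3 : Odd (Fintype.card F) := Cfsg.Agent.LieClassical.PomegaCard.odd_card_iff.2 h2
        rw [hF] at h3
        exact (Nat.not_even_iff_odd.2 h3) (h.pow_of_ne_zero two_ne_zero)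
      rw [h.neg_one_pow]
      linear_combination -h2
    · rw [h.neg_one_pow]; norm_num
  show (0 * x + 1 * y) * (0 * x' + 1 * y') ^ q + (-1 * x + 0 * y) * (-1 * x' + 0 * y') ^ q = _
  simp only [zero_mul, zero_add, add_zero, one_mul, mul_pow]
  linear_combination (x * x' ^ q) * h1

/-- The torus homomorphism. -/
def tor {a b : Fin n} (hab : a ≠ b) : normOne F q →* SU n F q where
  toFun u := ⟨blk hab (diagSL F u), diag_mem hab u.2⟩
  map_one' := Subtype.ext (by
    show blk hab (diagSL F ((1 : normOne F q) : Fˣ)) = 1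
    rw [OneMemClass.coe_one, map_one, map_one])
  map_mul' u v := Subtype.ext (by
    show blk hab (diagSL F ((u * v : normOne F q) : Fˣ)) = blk hab (diagSL F u) * blk hab (diagSL F v)
    rw [Subgroup.coe_mul, map_mul, map_mul])

theorem semiConj_tor {a b : Fin n} (hab : a ≠ b) (τ : F ≃+* F) (u u' : normOne F q)
    (huu : ((u' : Fˣ) : F) = τ ((u : Fˣ) : F)) : semiConj (1 : GU n F q) τ (tor hab u) = tor hab u' := by
  apply ext_act
  intro x
  have hx : x = fun i => τ (τ.symm (x i)) := by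
    funext i
    rw [RingEquiv.apply_symm_apply]
  rw [hx]
  show act (semiConj (1 : GU n F q) τ (tor hab u)) (fun i => τ ((fun j => τ.symm (x j)) i)) =
    act (tor hab u') (fun i => τ ((fun j => τ.symm (x j)) i))
  generalize (fun j => τ.symm (x j)) = y
  rw [Schreier.PSU.act_semiConj_field]
  funext i
  show τ ((NN a b (diagSL F u).1 *ᵥ y) i) = (NN a b (diagSL F u').1 *ᵥ fun j => τ (y j)) i
  have e1 : (diagSL F u' : Matrix.SpecialLinearGroup (Fin 2) F) =
      Matrix.SpecialLinearGroup.map (τ : F →+* F) (diagSL F u) := by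
    rw [map_diagSL]
    congr 1
    exact Units.ext huu
  rw [e1]
  by_cases hi : i = a
  · subst hi
    rw [NN_mulVec_fst hab, NN_mulVec_fst hab, map_add, map_mul, map_mul]
    rfl
  · by_cases hi' : i = b
    · subst hi'
      rw [NN_mulVec_snd hab, NN_mulVec_snd hab, map_add, map_mul, map_mul]
      rfl
    · rw [NN_mulVec_other _ _ hi hi', NN_mulVec_other _ _ hi hi']

/-- A field automorphism fixing the norm one group is trivial. -/
theorem eq_one_of_fix [Fintype F] (hF : Fintype.card F = q ^ 2) (τ : F ≃+* F)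
    (h : ∀ u ∈ normOne F q, τ ((u : Fˣ) : F) = u) : τ = 1 := by
  have h1 := H967.CopMat.card_Fx τ
  rw [Nat.card_eq_fintype_card, hF] at h1
  have h2 : q + 1 ≤ Nat.card (↥(H967.CopMat.Fx τ)) - 1 := by
    let f : normOne F q → (↥(H967.CopMat.Fx τ))ˣ := fun u => Units.mk0
      ⟨((u : Fˣ) : F), H967.CopMat.mem_Fx.2 (h u u.2)⟩ (by
        intro h0
        exact (u : Fˣ).ne_zero (congrArg Subtype.val h0))
    have hf : Function.Injective f := by
      intro u v huv
      apply Subtype.ext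
      apply Units.ext
      exact congrArg (fun w : (↥(H967.CopMat.Fx τ))ˣ => ((w : ↥(H967.CopMat.Fx τ)) : F)) huv
    have h3 := Nat.card_le_card_of_injective f hf
    rwa [card_normOne hF, Nat.card_units] at h3
  have hfin : Finite (F ≃+* F) := Finite.of_injective (fun f : F ≃+* F => (f : F → F)) DFunLike.coe_injective
  have h3 : orderOf τ < 2 := by
    by_contra hcon
    push Not at hcon
    have h4 : Nat.card (↥(H967.CopMat.Fx τ)) ^ 2 ≤ q ^ 2 := by
      rw [h1]
      exact Nat.pow_le_pow_right Nat.card_pos hcon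
    have h5 := (Nat.pow_le_pow_iff_left two_ne_zero).1 h4
    omega
  have h4 : 0 < orderOf τ := orderOf_pos τ
  exact orderOf_eq_one_iff.1 (by omega)

theorem realMove [Fintype F] (hF : Fintype.card F = q ^ 2) (hn : 3 ≤ n) (h32 : ¬ (n = 3 ∧ q = 2))
    [Finite (PSU n F q)] [IsSimpleGroup (PSU n F q)] (hna : ¬ IsMulCommutative (PSU n F q))
    (h2 : 2 ∣ Nat.card (PSU n F q)) : RealMove (PSU n F q) := by
  obtain ⟨ρ, hρ, -⟩ := H254.exists_ringAut F
  have hco := H254.PSUn.copIn hF hn h32 hna ρ hρ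
  have hab : (⟨0, by omega⟩ : Fin n) ≠ ⟨1, by omega⟩ := by
    intro h
    have := congrArg Fin.val h
    simp at this
  have hw := weyl_mem (F := F) (q := q) hab hF
  have hreal : ∀ u : normOne F q, (⟨blk hab (weylSL F), hw⟩ : SU n F q) * tor hab u *
      (⟨blk hab (weylSL F), hw⟩ : SU n F q)⁻¹ = (tor hab u)⁻¹ := by
    intro u
    apply Subtype.ext
    show blk hab (weylSL F) * blk hab (diagSL F u) * (blk hab (weylSL F))⁻¹ = (blk hab (diagSL F u))⁻¹
    rw [← map_inv, ← map_inv, ← map_mul, ← map_mul, weylSL_conj]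
  refine RealMove.of_field h2 (H254.PSUn.fld n q) (FieldConj.of_copIn (ρ := ρ) _ hco) (normOne F q)
    ((pr n F q).comp (tor hab)) ?_ ?_ ?_ 1 ?_ ?_
  · intro τ u u' huu
    rw [H254.PSUn.fld_apply]
    show toAut (1 : GU n F q) τ (pr n F q (tor hab u)) = pr n F q (tor hab u')
    rw [toAut_pr, semiConj_tor hab τ u u' huu]
  · intro u hu
    have h1 : tor hab u ∈ Subgroup.center (SU n F q) := (QuotientGroup.eq_one_iff _).1 hu
    have h3 := Subgroup.mem_center_iff.1 h1 ⟨blk hab (weylSL F), hw⟩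
    have h4 := hreal u
    rw [h3, mul_inv_cancel_right] at h4
    have h5 : tor hab u ^ 2 = 1 := by
      rw [sq]
      nth_rewrite 1 [h4]
      exact inv_mul_cancel _
    rw [← map_pow] at h5
    have h6 : blk hab (diagSL F ((u ^ 2 : normOne F q) : Fˣ)) = 1 := congrArg Subtype.val h5
    have h7 : diagSL F ((u ^ 2 : normOne F q) : Fˣ) = 1 := blk_injective hab (by rw [h6, map_one])
    apply Subtype.ext
    apply Units.ext
    have h8 := congrFun (congrFun (congrArg Subtype.val h7) 0) 0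
    exact h8
  · intro u
    refine ⟨pr n F q ⟨blk hab (weylSL F), hw⟩, ?_⟩
    show pr n F q _ * pr n F q (tor hab u) * (pr n F q _)⁻¹ = (pr n F q (tor hab u))⁻¹
    rw [← map_mul, ← map_inv, ← map_mul, hreal, map_inv]
  · intro p hp hd
    exact absurd (Nat.dvd_one.1 hd) hp.one_lt.ne'
  · intro τ hτ
    rw [eq_one_of_fix hF τ hτ, map_one, one_pow]

end Cfsg.Agent.H531.RMPsu
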