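import Cfsg.Agent.H531.RMPsl

/-!
# `RealMove` for the symplectic groups
-/

set_option autoImplicit false

namespace Cfsg.Agent.H531.RMPsp

open Cfsg Cfsg.Agent.KFacts.MulOdd.TypeA Cfsg.Agent.ChevalleyStructure.SL2Hom
open Cfsg.Agent.ClassicalGeometry.SympBasic Cfsg.Agent.ClassicalGeometry.SympAutSemi
  Cfsg.Agent.ClassicalGeometry.SympGamma
open scoped Matrix

universe v

variable {F : Type v} [Field F]

section NN

variable {ι : Type} [Fintype ι] [DecidableEq ι] {a b : ι}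

theorem NN_mulVec_fst (hab : a ≠ b) (g : Matrix (Fin 2) (Fin 2) F) (u : ι → F) :
    (NN a b g *ᵥ u) a = g 0 0 * u a + g 0 1 * u b := by
  show ∑ w, NN a b g a w * u w = _
  rw [Fintype.sum_eq_add a b hab (fun w hw => by simp [NN, hw.1, hw.2])]
  simp [NN, hab.symm]

theorem NN_mulVec_snd (hab : a ≠ b) (g : Matrix (Fin 2) (Fin 2) F) (u : ι → F) :
    (NN a b g *ᵥ u) b = g 1 0 * u a + g 1 1 * u b := by
  show ∑ w, NN a b g b w * u w = _
  rw [Fintype.sum_eq_add a b hab (fun w hw => by simp [NN, hab.symm, hw.1, hw.2])]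
  simp [NN, hab.symm]

theorem NN_mulVec_other (g : Matrix (Fin 2) (Fin 2) F) (u : ι → F) {i : ι} (ha : i ≠ a) (hb : i ≠ b) :
    (NN a b g *ᵥ u) i = u i := by
  show ∑ w, NN a b g i w * u w = _
  rw [Fintype.sum_eq_single i (fun w hw => by simp [NN, ha, hb, Ne.symm hw])]
  simp [NN, ha, hb]

end NN

variable {m : ℕ}

/-- `SL₂(F) → Sp_2m(F)`. -/
def emb (i₀ : Fin m) : Matrix.SpecialLinearGroup (Fin 2) F →* Matrix.symplecticGroup (Fin m) F where
  toFun g := ⟨NN (Sum.inl i₀) (Sum.inr i₀) g.1, by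
    have hab : (Sum.inl i₀ : Fin m ⊕ Fin m) ≠ Sum.inr i₀ := Sum.inl_ne_inr
    rw [mem_symplecticGroup_iff]
    intro u v
    rw [sympForm_eq_sum, sympForm_eq_sum]
    refine Finset.sum_congr rfl fun i _ => ?_
    by_cases hi : i = i₀
    · subst hi
      have hdet : g.1 0 0 * g.1 1 1 - g.1 0 1 * g.1 1 0 = 1 := by
        rw [← Matrix.det_fin_two]; exact g.2
      simp only [NN_mulVec_fst hab, NN_mulVec_snd hab]
      linear_combination (u (Sum.inr i) * v (Sum.inl i) - u (Sum.inl i) * v (Sum.inr i)) * hdet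
    · have h1 : (Sum.inl i : Fin m ⊕ Fin m) ≠ Sum.inl i₀ := fun h => hi (Sum.inl_injective h)
      have h2 : (Sum.inr i : Fin m ⊕ Fin m) ≠ Sum.inr i₀ := fun h => hi (Sum.inr_injective h)
      simp only [NN_mulVec_other _ _ h1 Sum.inl_ne_inr, NN_mulVec_other _ _ Sum.inr_ne_inl h2]⟩
  map_one' := Subtype.ext (NN_one Sum.inl_ne_inr)
  map_mul' x y := Subtype.ext (NN_mul Sum.inl_ne_inr x.1 y.1)

theorem conjHom_emb (i₀ : Fin m) (τ : F ≃+* F) (g : Matrix.SpecialLinearGroup (Fin 2) F) :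
    conjHom m F (H254.PSP.frobSS m τ) (emb i₀ g) =
      emb i₀ (Matrix.SpecialLinearGroup.map (τ : F →+* F) g) := by
  have hab : (Sum.inl i₀ : Fin m ⊕ Fin m) ≠ Sum.inr i₀ := Sum.inl_ne_inr
  apply rho_injective
  rw [rho_conjHom]
  rw [mul_inv_eq_iff_eq_mul]
  ext1 u
  show frobPerm m τ (rho m F (emb i₀ g) u) = rho m F (emb i₀ _) (frobPerm m τ u)
  rw [rho_apply, rho_apply]
  show frobPerm m τ (NN (Sum.inl i₀) (Sum.inr i₀) g.1 *ᵥ u) =
    NN (Sum.inl i₀) (Sum.inr i₀) (Matrix.SpecialLinearGroup.map (τ : F →+* F) g).1 *ᵥ (frobPerm m τ u)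
  funext i
  rw [frobPerm_apply]
  by_cases hi : i = Sum.inl i₀
  · subst hi
    rw [NN_mulVec_fst hab, NN_mulVec_fst hab, map_add, map_mul, map_mul]
    rfl
  · by_cases hi' : i = Sum.inr i₀
    · subst hi'
      rw [NN_mulVec_snd hab, NN_mulVec_snd hab, map_add, map_mul, map_mul]
      rfl
    · rw [NN_mulVec_other _ _ hi hi', NN_mulVec_other _ _ hi hi']
      rfl

theorem realMove [Fintype F] (hm : 2 ≤ m) (h3 : m = 2 → 3 ≤ Fintype.card F) [Finite (PSp m F)]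
    [IsSimpleGroup (PSp m F)] (hna : ¬ IsMulCommutative (PSp m F)) (h2 : 2 ∣ Nat.card (PSp m F)) :
    RealMove (PSp m F) := by
  obtain ⟨ρ, hρ, -⟩ := H254.exists_ringAut F
  have hco := H254.PSP.copIn hm h3 hna h2 ρ hρ
  let i₀ : Fin m := ⟨0, by omega⟩
  have hab : (Sum.inl i₀ : Fin m ⊕ Fin m) ≠ Sum.inr i₀ := Sum.inl_ne_inr
  refine RealMove.of_sl h2 (H254.PSP.fld m) (FieldConj.of_copIn (ρ := ρ) _ hco)
    ((QuotientGroup.mk' _).comp (emb i₀)) ?_ ?_
  · intro τ u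
    show Psi m F (H254.PSP.frobSS m τ) (QuotientGroup.mk (emb i₀ (diagSL F u))) =
      QuotientGroup.mk (emb i₀ (diagSL F _))
    rw [Psi_mk, conjHom_emb, map_diagSL]
  · intro t ht
    have h1 : emb i₀ (up t) ∈ Subgroup.center (Matrix.symplecticGroup (Fin m) F) :=
      (QuotientGroup.eq_one_iff _).1 ht
    -- commutes with the lower root element
    have h4 := Subgroup.mem_center_iff.1 h1 (emb i₀ (lo 1))
    rw [← map_mul, ← map_mul] at h4
    have h5 : NN (Sum.inl i₀) (Sum.inr i₀) (lo 1 * up t : Matrix.SpecialLinearGroup (Fin 2) F).1 =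
        NN (Sum.inl i₀) (Sum.inr i₀) (up t * lo 1 : Matrix.SpecialLinearGroup (Fin 2) F).1 :=
      congrArg Subtype.val h4
    have h6 := congrFun (congrFun h5 (Sum.inl i₀)) (Sum.inl i₀)
    have h7 : (lo 1 * up t : Matrix.SpecialLinearGroup (Fin 2) F).1 0 0 = 1 := by
      show (!![(1 : F), 0; 1, 1] * !![(1 : F), t; 0, 1]) 0 0 = 1
      simp [Matrix.mul_apply, Fin.sum_univ_two]
    have h8 : (up t * lo 1 : Matrix.SpecialLinearGroup (Fin 2) F).1 0 0 = 1 + t := by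
      show (!![(1 : F), t; 0, 1] * !![(1 : F), 0; 1, 1]) 0 0 = 1 + t
      simp [Matrix.mul_apply, Fin.sum_univ_two]
    simp only [NN, if_true] at h6
    rw [h7, h8] at h6
    exact (left_eq_add.1 h6)

end Cfsg.Agent.H531.RMPsp
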