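import Cfsg.Agent.H531.FMMain
import Cfsg.Agent.S0000

/-!
# `FM` for all finite non-abelian simple groups
-/

set_option autoImplicit false

namespace Cfsg.Agent.H531.FMAll

open Cfsg.Agent.H531

universe u

/-- For every group `A` of automorphisms of a finite non-abelian simple group `S` of order prime to `|S|` there is a
real element `x` of `S` with `⟨x⟩` `A`-invariant and `C_A(x) = 1`. -/
theorem fm (S : Type u) [Group S] [Finite S] [IsSimpleGroup S] (hna : ¬ IsMulCommutative S) : FM S :=
  FMMain.known_of S hna Cfsg.Agent.S0000.result

end Cfsg.Agent.H531.FMAll
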