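import Cfsg.Agent.H531.RealMove
import Cfsg.Agent.H531.RMSub

/-!
# Coprime groups of automorphisms move one real cyclic subgroup regularly

`FM K` : for every group `A` of automorphisms of `K` of order prime to `|K|` there is a real element `x` of `K` whose
cyclic subgroup `⟨x⟩` is `A`-invariant, with `C_A(x) = 1`.

* `FM.realMove`, `FM.of_equiv`, `FM.of_copTriv`, `FM.of_set`, `FM.of_copIn`;
* `FM.of_field`, `FM.of_field_units`, `FM.of_sl`, `FM.of_sl'`, `FM.of_row_fixed`.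
-/

set_option autoImplicit false

namespace Cfsg.Agent.H531

open Cfsg.Agent.H254 Cfsg.Agent.ChevalleyStructure.SL2Hom

universe u v

/-- For every group `A` of automorphisms of `K` of order prime to `|K|` there is a real element `x` of `K` with `⟨x⟩`
`A`-invariant and `C_A(x) = 1`. -/
def FM (K : Type*) [Group K] : Prop :=
  ∀ A : Subgroup (MulAut K), (Nat.card A).Coprime (Nat.card K) →
    ∃ x t : K, (∀ a ∈ A, a x ∈ Subgroup.zpowers x) ∧ (∀ a ∈ A, a x = x → a = 1) ∧ t * x * t⁻¹ = x⁻¹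

theorem FM.realMove {K : Type u} [Group K] (h : FM K) : RealMove K := by
  intro p α hp hpK hα hne
  have hpf : Fact p.Prime := ⟨hp⟩
  have ho : orderOf α = p := orderOf_eq_prime hα hne
  obtain ⟨x, t, h1, h2, h3⟩ := h (Subgroup.zpowers α) (by
    rw [Nat.card_zpowers, ho]
    exact (Nat.Prime.coprime_iff_not_dvd hp).2 hpK)
  exact ⟨x, t, h1 α (Subgroup.mem_zpowers α), fun h => hne (h2 α (Subgroup.mem_zpowers α) h), h3⟩

/-- The form for a group acting by a homomorphism. -/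
theorem FM.apply {K : Type u} [Group K] (h : FM K) {B : Type v} [Group B] (φ : B →* MulAut K)
    (hB : (Nat.card B).Coprime (Nat.card K)) :
    ∃ x t : K, (∀ b : B, φ b x ∈ Subgroup.zpowers x) ∧ (∀ b : B, φ b x = x → φ b = 1) ∧ t * x * t⁻¹ = x⁻¹ := by
  obtain ⟨x, t, h1, h2, h3⟩ := h φ.range (Nat.Coprime.coprime_dvd_left (Subgroup.card_range_dvd φ) hB)
  exact ⟨x, t, fun b => h1 _ ⟨b, rfl⟩, fun b hb => h2 _ ⟨b, rfl⟩ hb, h3⟩

theorem FM.of_equiv {K : Type u} [Group K] {L : Type v} [Group L] (e : K ≃* L) (h : FM K) : FM L := by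
  intro A hA
  have hcard : Nat.card K = Nat.card L := Nat.card_congr e.toEquiv
  let E : MulAut L ≃* MulAut K := (MulAut.congr e).symm
  have h1 : Nat.card (A.map E.toMonoidHom) = Nat.card A :=
    (Nat.card_congr (A.equivMapOfInjective E.toMonoidHom E.injective).toEquiv).symm
  obtain ⟨x, t, h2, h3, h4⟩ := h (A.map E.toMonoidHom) (by rw [h1, hcard]; exact hA)
  have key : ∀ a : MulAut L, E a x = e.symm (a (e x)) := fun a => rfl
  refine ⟨e x, e t, fun a ha => ?_, fun a ha hx => ?_, ?_⟩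
  · have h5 := h2 (E a) ⟨a, ha, rfl⟩
    rw [key] at h5
    obtain ⟨k, hk⟩ := Subgroup.mem_zpowers_iff.1 h5
    refine Subgroup.mem_zpowers_iff.2 ⟨k, ?_⟩
    rw [← map_zpow, hk, MulEquiv.apply_symm_apply]
  · have h5 := h3 (E a) ⟨a, ha, rfl⟩ (by rw [key, hx, MulEquiv.symm_apply_apply])
    exact (map_eq_one_iff E E.injective).1 h5
  · rw [← map_mul, ← map_inv, ← map_mul, h4, map_inv]

theorem FM.of_copTriv {K : Type u} [Group K] (h : CopTriv K) : FM K := by
  intro A hA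
  have h1 : A = ⊥ := h A hA
  refine ⟨1, 1, fun a ha => ?_, fun a ha _ => ?_, by simp⟩
  · rw [map_one]
    exact one_mem _
  · rw [h1] at ha
    exact Subgroup.mem_bot.1 ha

/-- The general criterion. -/
theorem FM.of_set {K : Type u} [Group K] (T : MulAut K → Prop)
    (h : ∀ A : Subgroup (MulAut K), (Nat.card A).Coprime (Nat.card K) → ∃ g : MulAut K, ∀ a ∈ A, T (g * a * g⁻¹))
    (x t : K) (hx : ∀ β, T β → β x ∈ Subgroup.zpowers x)
    (hfix : ∀ (p : ℕ) (β : MulAut K), p.Prime → ¬ p ∣ Nat.card K → T β → β ^ p = 1 → β ≠ 1 → β x ≠ x)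
    (ht : t * x * t⁻¹ = x⁻¹) : FM K := by
  intro A hA
  obtain ⟨g, hg⟩ := h A hA
  have key : ∀ a : MulAut K, a (g⁻¹ x) = g⁻¹ ((g * a * g⁻¹) x) := by
    intro a
    show a (g⁻¹ x) = g⁻¹ (g (a (g⁻¹ x)))
    rw [MulAut.inv_apply_self]
  refine ⟨g⁻¹ x, g⁻¹ t, fun a ha => ?_, fun a ha hax => ?_, ?_⟩
  · rw [key]
    obtain ⟨j, hj⟩ := Subgroup.mem_zpowers_iff.1 (hx _ (hg a ha))
    refine Subgroup.mem_zpowers_iff.2 ⟨j, ?_⟩
    rw [← map_zpow, hj]
  · by_contra hne
    by_cases h0 : Nat.card A = 0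
    · rw [h0, Nat.coprime_zero_left] at hA
      have hs : Subsingleton K := (Nat.card_eq_one_iff_unique.1 hA).1
      apply hne
      ext y
      exact Subsingleton.elim _ _
    · have hfin : Finite A := Nat.finite_of_card_ne_zero h0
      have h1 : orderOf a ≠ 1 := fun h => hne (orderOf_eq_one_iff.1 h)
      obtain ⟨p, hp, hpd⟩ := Nat.exists_prime_and_dvd h1
      have h2 : orderOf a ∣ Nat.card A := by
        have := orderOf_dvd_natCard (⟨a, ha⟩ : A)
        rwa [Subgroup.orderOf_mk] at this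
      have h3 : 0 < orderOf a := Nat.pos_of_ne_zero fun h => by
        rw [h] at h2
        exact h0 (Nat.eq_zero_of_zero_dvd h2)
      have hpK : ¬ p ∣ Nat.card K := by
        intro h4
        have h5 : p ∣ Nat.gcd (Nat.card A) (Nat.card K) := Nat.dvd_gcd (hpd.trans h2) h4
        rw [hA] at h5
        exact hp.one_lt.ne' (Nat.dvd_one.1 h5)
      obtain ⟨m, hm⟩ := hpd
      have hm0 : m ≠ 0 := by
        rintro rfl
        rw [mul_zero] at hm
        omega
      have h6 : orderOf (a ^ m) = p := by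
        rw [orderOf_pow_of_dvd hm0 ⟨p, by rw [hm, mul_comm]⟩, hm, Nat.mul_div_cancel _ (Nat.pos_of_ne_zero hm0)]
      have h7 : ∀ k : ℕ, (a ^ k) (g⁻¹ x) = g⁻¹ x := by
        intro k
        induction k with
        | zero => rw [pow_zero]; rfl
        | succ k ih => rw [pow_succ, MulAut.mul_apply, hax, ih]
      have h8 := h7 m
      rw [key] at h8
      refine hfix p (g * a ^ m * g⁻¹) hp hpK (hg _ (pow_mem ha m)) ?_ ?_ (g⁻¹.injective h8)
      · rw [conj_pow, ← h6, pow_orderOf_eq_one, mul_one, mul_inv_cancel]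
      · intro h9
        have h10 : a ^ m = 1 := by
          have : a ^ m = g⁻¹ * (g * a ^ m * g⁻¹) * g := by group
          rw [this, h9, mul_one, inv_mul_cancel]
        rw [h10, orderOf_one] at h6
        exact hp.one_lt.ne h6
  · rw [← map_mul, ← map_inv, ← map_mul, ht, map_inv]

theorem FM.of_copIn {K : Type u} [Group K] {σ : MulAut K} (h : CopIn K σ) (x t : K)
    (hx : ∀ k : ℤ, (σ ^ k) x ∈ Subgroup.zpowers x)
    (hfix : ∀ (p : ℕ) (k : ℤ), p.Prime → ¬ p ∣ Nat.card K → (σ ^ k) ^ p = 1 → σ ^ k ≠ 1 → (σ ^ k) x ≠ x)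
    (ht : t * x * t⁻¹ = x⁻¹) : FM K := by
  refine FM.of_set (fun β => ∃ k : ℤ, β = σ ^ k) ?_ x t ?_ ?_ ht
  · intro A hA
    obtain ⟨g, hg⟩ := h A hA
    refine ⟨g, fun a ha => ?_⟩
    have h1 : MulAut.conj g a ∈ Subgroup.zpowers σ := hg ⟨a, ha, rfl⟩
    obtain ⟨k, hk⟩ := Subgroup.mem_zpowers_iff.1 h1
    exact ⟨k, by rw [hk, MulAut.conj_apply]⟩
  · rintro _ ⟨k, rfl⟩
    exact hx k
  · rintro p _ hp hpK ⟨k, rfl⟩ h1 h2
    exact hfix p k hp hpK h1 h2

/-- Every group of automorphisms of `K` of order prime to `|K|` is conjugate in `Aut K` to a group of automorphisms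
`φ τ` (`φ τ` being the automorphism of `K` induced by the field automorphism `τ`). -/
def FieldConjS {K : Type*} [Group K] {F : Type*} [Field F] (φ : (F ≃+* F) →* MulAut K) : Prop :=
  ∀ A : Subgroup (MulAut K), (Nat.card A).Coprime (Nat.card K) →
    ∃ g : MulAut K, ∀ a ∈ A, ∃ τ : F ≃+* F, g * a * g⁻¹ = φ τ

theorem FieldConjS.of_copIn {K : Type*} [Group K] {F : Type*} [Field F] (φ : (F ≃+* F) →* MulAut K) {ρ : F ≃+* F}
    (h : CopIn K (φ ρ)) : FieldConjS φ := by
  intro A hA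
  obtain ⟨g, hg⟩ := h A hA
  refine ⟨g, fun a ha => ?_⟩
  have h1 : MulAut.conj g a ∈ Subgroup.zpowers (φ ρ) := hg ⟨a, ha, rfl⟩
  obtain ⟨k, hk⟩ := Subgroup.mem_zpowers_iff.1 h1
  rw [MulAut.conj_apply, ← map_zpow] at hk
  exact ⟨ρ ^ k, hk.symm⟩

theorem FieldConjS.of_row {ι : Type*} [Fintype ι] [DecidableEq ι] {F : Type*} [Field F]
    {G : Subgroup (Matrix.GeneralLinearGroup ι F)} (R : H967.CopRow.Row G) :
    FieldConjS (H967.CopMat.fieldAut R.stab) := by
  intro A hA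
  obtain ⟨g, σ, h⟩ := R.conj A hA
  refine ⟨g, fun a ha => ?_⟩
  have h1 : MulAut.conj g a ∈ Subgroup.zpowers (H967.CopMat.fieldAut R.stab σ) := by
    rw [← h]
    exact ⟨a, ha, rfl⟩
  obtain ⟨k, hk⟩ := Subgroup.mem_zpowers_iff.1 h1
  rw [MulAut.conj_apply, ← map_zpow] at hk
  exact ⟨σ ^ k, hk.symm⟩

/-- **Criterion for field automorphisms.** See `RealMove.of_field`. -/
theorem FM.of_field {K : Type u} [Group K] {F : Type v} [Field F] [Finite F] (h2 : 2 ∣ Nat.card K)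
    (φ : (F ≃+* F) →* MulAut K) (hco : FieldConjS φ) (U : Subgroup Fˣ) (h : U →* K)
    (hφ : ∀ (τ : F ≃+* F) (u u' : U), ((u' : Fˣ) : F) = τ ((u : Fˣ) : F) → φ τ (h u) = h u')
    (hker : ∀ u : U, h u = 1 → u ^ 2 = 1) (hreal : ∀ u : U, ∃ t : K, t * h u * t⁻¹ = (h u)⁻¹)
    (c : ℕ) (hc : ∀ p : ℕ, p.Prime → p ∣ c → p ∣ Nat.card K)
    (hU : ∀ τ : F ≃+* F, (∀ u ∈ U, τ ((u : Fˣ) : F) = u) → φ τ ^ c = 1) : FM K := by
  have hcyc : IsCyclic U := inferInstance
  obtain ⟨u, hu⟩ := IsCyclic.exists_generator (α := U)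
  obtain ⟨t, ht⟩ := hreal u
  have h3 : ∀ (τ : F ≃+* F) (m : ℤ), (∀ g : Fˣ, Units.map (τ : F →* F) g = g ^ m) → φ τ (h u) = h u ^ m := by
    intro τ m hm
    rw [← map_zpow]
    apply hφ
    have := congrArg Units.val (hm (u : Fˣ))
    rw [Subgroup.coe_zpow]
    rw [← this]
    rfl
  refine FM.of_set (fun β => ∃ τ : F ≃+* F, β = φ τ) ?_ (h u) t ?_ ?_ ht
  · intro A hA
    obtain ⟨g, hg⟩ := hco A hA
    exact ⟨g, hg⟩
  · rintro _ ⟨τ, rfl⟩
    obtain ⟨m, hm⟩ := MonoidHom.map_cyclic (Units.map (τ : F →* F))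
    rw [h3 τ m hm]
    exact Subgroup.zpow_mem _ (Subgroup.mem_zpowers _) _
  · rintro p _ hp hpK ⟨τ, rfl⟩ hpow hne
    obtain ⟨m, hm⟩ := MonoidHom.map_cyclic (Units.map (τ : F →* F))
    intro h4
    have h5 : (u ^ (m - 1)) ^ 2 = 1 := by
      apply hker
      rw [map_zpow, zpow_sub_one, ← h3 τ m hm, h4, mul_inv_cancel]
    have h7 : τ (((u : Fˣ) : F)) = ((u : Fˣ) : F) * (((u ^ (m - 1) : U) : Fˣ) : F) := by
      have h8 := congrArg Units.val (hm (u : Fˣ))
      have h9 : ((u : Fˣ)) ^ m = (u : Fˣ) * ((u ^ (m - 1) : U) : Fˣ) := by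
        rw [Subgroup.coe_zpow, zpow_sub_one, mul_comm, inv_mul_cancel_right]
      rw [h9] at h8
      exact h8
    have h10 : (((u ^ (m - 1) : U) : Fˣ) : F) ^ 2 = 1 := by
      have := congrArg (fun z : U => (((z : Fˣ)) : F)) h5
      simpa using this
    have h11 : τ (τ (((u : Fˣ) : F))) = ((u : Fˣ) : F) := by
      have h12 : τ ((((u ^ (m - 1) : U) : Fˣ) : F)) = (((u ^ (m - 1) : U) : Fˣ) : F) := by
        rcases (sq_eq_one_iff.1 h10) with h | h
        · rw [h, map_one]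
        · rw [h, map_neg, map_one]
      rw [h7, map_mul, h12, h7, mul_assoc, ← sq, h10, mul_one]
    have h6 : (φ (τ ^ 2)) ^ c = 1 := by
      apply hU
      intro v hv
      obtain ⟨k, hk⟩ := Subgroup.mem_zpowers_iff.1 (hu ⟨v, hv⟩)
      have h13 : Units.map ((τ ^ 2 : F ≃+* F) : F →* F) (u : Fˣ) = (u : Fˣ) := Units.ext h11
      have h14 : Units.map ((τ ^ 2 : F ≃+* F) : F →* F) ((u : Fˣ) ^ k) = (u : Fˣ) ^ k := by
        rw [map_zpow, h13]
      have h15 : v = (u : Fˣ) ^ k := by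
        have := congrArg Subtype.val hk
        simpa using this.symm
      rw [h15]
      exact congrArg Units.val h14
    rw [map_pow, ← pow_mul] at h6
    have h16 : Nat.Coprime p (2 * c) := by
      rw [Nat.Prime.coprime_iff_not_dvd hp]
      intro h
      rcases hp.dvd_mul.1 h with h | h
      · rw [(Nat.prime_dvd_prime_iff_eq hp Nat.prime_two).1 h] at hpK
        exact hpK h2
      · exact hpK (hc p hp h)
    apply hne
    have h17 : orderOf (φ τ) ∣ Nat.gcd p (2 * c) :=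
      Nat.dvd_gcd (orderOf_dvd_of_pow_eq_one hpow) (orderOf_dvd_of_pow_eq_one h6)
    rw [h16] at h17
    exact orderOf_eq_one_iff.1 (Nat.dvd_one.1 h17)

/-- **Criterion**, one dimensional version: `U = Fˣ`. -/
theorem FM.of_field_units {K : Type u} [Group K] {F : Type v} [Field F] [Finite F] (h2 : 2 ∣ Nat.card K)
    (φ : (F ≃+* F) →* MulAut K) (hco : FieldConjS φ) (h : Fˣ →* K)
    (hφ : ∀ (τ : F ≃+* F) (u : Fˣ), φ τ (h u) = h (Units.map (τ : F →* F) u))
    (hker : ∀ u : Fˣ, h u = 1 → u ^ 2 = 1) (hreal : ∀ u : Fˣ, ∃ t : K, t * h u * t⁻¹ = (h u)⁻¹) : FM K := by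
  refine FM.of_field h2 φ hco ⊤ (h.comp (Subgroup.subtype ⊤)) ?_ ?_ ?_ 1 ?_ ?_
  · intro τ u u' hu
    show φ τ (h (u : Fˣ)) = h (u' : Fˣ)
    rw [hφ]
    congr 1
    exact Units.ext hu.symm
  · intro u hu
    exact Subtype.ext (hker (u : Fˣ) hu)
  · intro u
    exact hreal (u : Fˣ)
  · intro p hp hd
    exact absurd (Nat.dvd_one.1 hd) hp.one_lt.ne'
  · intro τ hτ
    have h1 : τ = 1 := by
      ext x
      rcases eq_or_ne x 0 with hx | hx
      · rw [hx, map_zero, map_zero]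
      · exact hτ (Units.mk0 x hx) (Subgroup.mem_top _)
    rw [h1, map_one, one_pow]

/-- **Criterion**, with `SL₂`: `s` is a homomorphism from `SL₂(F)` to `K` with kernel contained in `{±1}`. -/
theorem FM.of_sl {K : Type u} [Group K] {F : Type v} [Field F] [Finite F] (h2 : 2 ∣ Nat.card K)
    (φ : (F ≃+* F) →* MulAut K) (hco : FieldConjS φ)
    (s : Matrix.SpecialLinearGroup (Fin 2) F →* K)
    (hφ : ∀ (τ : F ≃+* F) (u : Fˣ), φ τ (s (diagSL F u)) = s (diagSL F (Units.map (τ : F →* F) u)))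
    (hinj : ∀ t : F, s (up t) = 1 → t = 0) : FM K := by
  refine FM.of_field_units h2 φ hco (s.comp (diagSL F)) hφ ?_ ?_
  · intro u hu
    exact sq_of_ker s (hinj · ·) u hu
  · intro u
    refine ⟨s (weylSL F), ?_⟩
    show _ * s (diagSL F u) * _ = (s (diagSL F u))⁻¹
    rw [← map_inv, ← map_inv, ← map_mul, ← map_mul, weylSL_conj]

/-- **Criterion**, with `SL₂` and its root groups. -/
theorem FM.of_sl' {K : Type u} [Group K] {F : Type v} [Field F] [Finite F] (h2 : 2 ∣ Nat.card K)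
    (φ : (F ≃+* F) →* MulAut K) (hco : FieldConjS φ)
    (s : Matrix.SpecialLinearGroup (Fin 2) F →* K)
    (hup : ∀ (τ : F ≃+* F) (t : F), φ τ (s (up t)) = s (up (τ t)))
    (hlo : ∀ (τ : F ≃+* F) (t : F), φ τ (s (lo t)) = s (lo (τ t)))
    (hinj : ∀ t : F, s (up t) = 1 → t = 0) : FM K :=
  FM.of_sl h2 φ hco s
    (fun τ u => by rw [equivariant s (φ τ) τ (hup τ) (hlo τ), map_diagSL]) hinj

open Cfsg.Agent.H967.CopMat Cfsg.Agent.H967.CopRow in
/-- **Criterion** for twisted groups. -/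
theorem FM.of_row_fixed {ι : Type} [Fintype ι] [DecidableEq ι] {K : Type v} [Field K] [Fintype K]
    {G : Subgroup (Matrix.GeneralLinearGroup ι K)} (R : Row G) (h2 : 2 ∣ Nat.card ↥G)
    (s : Matrix.SpecialLinearGroup (Fin 2) K →* Matrix.GeneralLinearGroup ι K) {q d : ℕ} (hq : 2 ≤ q)
    (hK : Fintype.card K = q ^ d) (φ : K →+* K) (hφ : ∀ x, φ x = x ^ q)
    (hup : ∀ t : K, φ t = t → s (up t) ∈ G) (hlo : ∀ t : K, φ t = t → s (lo t) ∈ G)
    (eup : ∀ (τ : K ≃+* K) (t : K), Matrix.GeneralLinearGroup.map (τ : K →+* K) (s (up t)) = s (up (τ t)))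
    (elo : ∀ (τ : K ≃+* K) (t : K), Matrix.GeneralLinearGroup.map (τ : K →+* K) (s (lo t)) = s (lo (τ t)))
    (hinj : ∀ t : K, s (up t) = 1 → t = 0) (hfac : ∀ p : ℕ, p.Prime → p ∣ d.factorial → p ∣ Nat.card ↥G) :
    FM ↥G := by
  have hw : s (weylSL K) ∈ G := by
    rw [weylSL_eq, map_mul, map_mul]
    have h1 : φ (-1) = -1 := by rw [map_neg, map_one]
    exact mul_mem (mul_mem (hup 1 (map_one φ)) (hlo (-1) h1)) (hup 1 (map_one φ))
  have hmem : ∀ u ∈ fixUnits K q, s (diagSL K u) ∈ G := by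
    intro u hu
    have hu1 : φ (u : K) = u := by
      rw [hφ, ← Units.val_pow_eq_pow_val]
      exact congrArg Units.val hu
    have hu2 : φ (-(u : K)⁻¹) = -(u : K)⁻¹ := by rw [map_neg, map_inv₀, hu1]
    rw [diagSL_eq, map_mul, map_mul, map_mul, map_inv]
    exact mul_mem (mul_mem (mul_mem (hup _ hu1) (hlo _ hu2)) (hup _ hu1)) (inv_mem hw)
  let h : fixUnits K q →* ↥G :=
    { toFun := fun u => ⟨s (diagSL K u), hmem u u.2⟩
      map_one' := Subtype.ext (by
        show s (diagSL K ((1 : fixUnits K q) : Kˣ)) = 1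
        rw [OneMemClass.coe_one, map_one, map_one])
      map_mul' := fun u v => Subtype.ext (by
        show s (diagSL K ((u * v : fixUnits K q) : Kˣ)) = s (diagSL K u) * s (diagSL K v)
        rw [Subgroup.coe_mul, map_mul, map_mul]) }
  -- entrywise field automorphisms
  have hequiv : ∀ (τ : K ≃+* K) (g : Matrix.SpecialLinearGroup (Fin 2) K),
      Matrix.GeneralLinearGroup.map (τ : K →+* K) (s g) = s (Matrix.SpecialLinearGroup.map (τ : K →+* K) g) := by
    intro τ g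
    have hg := mem_closure_SL2 g
    induction hg using Subgroup.closure_induction with
    | mem x hx =>
      rcases hx with ⟨t, rfl⟩ | ⟨t, rfl⟩
      · rw [eup, map_up]
      · rw [elo, map_lo]
    | one => rw [map_one, map_one, map_one, map_one]
    | mul x y _ _ h1 h2 => rw [map_mul, map_mul, map_mul, map_mul, h1, h2]
    | inv x _ h1 => rw [map_inv, map_inv, map_inv, map_inv, h1]
  refine FM.of_field h2 (fieldAut R.stab) (FieldConjS.of_row R) (fixUnits K q) h ?_ ?_ ?_ d.factorial hfac ?_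
  · intro τ u u' huu
    apply Subtype.ext
    rw [coe_fieldAut]
    show Matrix.GeneralLinearGroup.map (τ : K →+* K) (s (diagSL K u)) = s (diagSL K u')
    rw [hequiv, map_diagSL]
    congr 2
    exact Units.ext huu.symm
  · intro u hu
    have h1 : s (diagSL K u) = 1 := congrArg Subtype.val hu
    exact Subtype.ext (sq_of_ker s hinj u h1)
  · intro u
    refine ⟨⟨s (weylSL K), hw⟩, ?_⟩
    apply Subtype.ext
    show s (weylSL K) * s (diagSL K u) * (s (weylSL K))⁻¹ = (s (diagSL K u))⁻¹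
    rw [← map_inv, ← map_inv, ← map_mul, ← map_mul, weylSL_conj]
  · intro τ hτ
    have h1 := orderOf_le hq hK τ hτ
    have hfin : Finite (K ≃+* K) := Finite.of_injective (fun f : K ≃+* K => (f : K → K)) DFunLike.coe_injective
    have h3 : 0 < orderOf τ := orderOf_pos τ
    have h4 : orderOf τ ∣ d.factorial := Nat.dvd_factorial h3 h1
    rw [← map_pow, orderOf_dvd_iff_pow_eq_one.1 h4, map_one]

end Cfsg.Agent.H531
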