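import Cfsg.Agent.H531.RealMove
import Cfsg.Agent.H254.CopLin
import Cfsg.Agent.KFacts.MulOdd.TypeA

/-!
# `RealMove` for the linear groups
-/

set_option autoImplicit false

namespace Cfsg.Agent.H531.RMPsl

open Cfsg.Agent.ClassicalGeometry.AutPSL.Auto Cfsg.Agent.ClassicalGeometry.AutPSL.Main
open Cfsg.Agent.ClassicalGeometry.AutPSL.Root
open Cfsg.Agent.KFacts.MulOdd.TypeA Cfsg.Agent.ChevalleyStructure.SL2Hom

universe v

variable {F : Type v} [Field F] {n : ℕ}

theorem map_blk {ι : Type} [Fintype ι] [DecidableEq ι] {a b : ι} (hab : a ≠ b) (τ : F ≃+* F)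
    (g : Matrix.SpecialLinearGroup (Fin 2) F) :
    Matrix.SpecialLinearGroup.map (τ : F →+* F) (blk hab g) =
      blk hab (Matrix.SpecialLinearGroup.map (τ : F →+* F) g) := by
  apply Subtype.ext
  ext u v
  show τ (NN a b g.1 u v) = NN a b (Matrix.SpecialLinearGroup.map (τ : F →+* F) g).1 u v
  unfold NN
  split_ifs <;> first | exact map_zero τ | exact map_one τ | rfl

theorem realMove [Fintype F] (hn : 2 ≤ n) (h4 : n = 2 → 4 ≤ Fintype.card F)
    [Finite (Matrix.ProjectiveSpecialLinearGroup (Fin n) F)]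
    [IsSimpleGroup (Matrix.ProjectiveSpecialLinearGroup (Fin n) F)]
    (hna : ¬ IsMulCommutative (Matrix.ProjectiveSpecialLinearGroup (Fin n) F))
    (h2 : 2 ∣ Nat.card (Matrix.ProjectiveSpecialLinearGroup (Fin n) F)) :
    RealMove (Matrix.ProjectiveSpecialLinearGroup (Fin n) F) := by
  obtain ⟨ρ, hρ, -⟩ := H254.exists_ringAut F
  have hco := H254.PSL.copIn hn h4 hna h2 ρ hρ
  have hab : (⟨0, by omega⟩ : Fin n) ≠ ⟨1, by omega⟩ := by
    intro h
    have := congrArg Fin.val h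
    simp at this
  refine RealMove.of_sl h2 ((lift).comp fld) (FieldConj.of_copIn (ρ := ρ) _ hco)
    ((QuotientGroup.mk' _).comp (blk hab)) ?_ ?_
  · intro τ u
    show lift (fld τ) (pr (blk hab (diagSL F u))) = pr (blk hab (diagSL F _))
    rw [lift_pr]
    congr 1
    show Matrix.SpecialLinearGroup.map (τ : F →+* F) (blk hab (diagSL F u)) = _
    rw [map_blk, map_diagSL]
  · intro t ht
    have h1 : blk hab (up t) ∈ Subgroup.center (Matrix.SpecialLinearGroup (Fin n) F) :=
      (QuotientGroup.eq_one_iff _).1 ht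
    rw [Matrix.SpecialLinearGroup.mem_center_iff] at h1
    obtain ⟨r, -, hr⟩ := h1
    have h3 := congrFun (congrFun hr ⟨0, by omega⟩) ⟨1, by omega⟩
    have h4 : (blk hab (up t)).1 ⟨0, by omega⟩ ⟨1, by omega⟩ = t := by
      show NN (⟨0, by omega⟩ : Fin n) ⟨1, by omega⟩ (up t).1 ⟨0, by omega⟩ ⟨1, by omega⟩ = t
      simp [NN, up]
    rw [h4] at h3
    rw [← h3]
    simp

end Cfsg.Agent.H531.RMPsl
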