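import Cfsg.Agent.H531.TwoPrimes

/-!
# Divisibility of class sizes

`|x^G|` is the index of the centralizer of `x`.

* `relIndex_dvd_index` : `|M : M ∩ C|` divides `|G : C|` for `M` normal;
* `quotient_dvd`, `normal_dvd` : class sizes of quotients and of normal subgroups divide those of the group;
* `prime_dvd_of_normalizes` : a `p`-element normalising but not centralising `⟨x⟩` gives `p ∣ |x^G|`;
* `two_dvd_of_inverts`.
-/

set_option autoImplicit false

namespace Cfsg.Agent.H531.ClassIndex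

variable {G : Type*} [Group G]

theorem card_mul_relIndex {H K : Subgroup G} (h : H ≤ K) : Nat.card H * H.relIndex K = Nat.card K := by
  have := Subgroup.relIndex_mul_relIndex ⊥ H K bot_le h
  rwa [Subgroup.relIndex_bot_left, Subgroup.relIndex_bot_left] at this

theorem relIndex_dvd_index [Finite G] (C M : Subgroup G) [M.Normal] : C.relIndex M ∣ C.index := by
  have h1 : C.relIndex (C ⊔ M) * (C ⊔ M).index = C.index := Subgroup.relIndex_mul_index le_sup_left
  have h2 : M.relIndex (C ⊔ M) = M.relIndex C := Subgroup.relIndex_sup_right C M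
  have h3 : Nat.card C * C.relIndex (C ⊔ M) = Nat.card ↥(C ⊔ M) := card_mul_relIndex le_sup_left
  have h4 : Nat.card M * M.relIndex (C ⊔ M) = Nat.card ↥(C ⊔ M) := card_mul_relIndex le_sup_right
  have h5 : Nat.card ↥(C ⊓ M) * (C ⊓ M).relIndex M = Nat.card M := card_mul_relIndex inf_le_right
  have h6 : Nat.card ↥(C ⊓ M) * (C ⊓ M).relIndex C = Nat.card C := card_mul_relIndex inf_le_left
  rw [Subgroup.inf_relIndex_right] at h5
  rw [Subgroup.inf_relIndex_left] at h6
  have hpos : 0 < Nat.card ↥(C ⊓ M) := Nat.card_pos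
  have hpos2 : 0 < M.relIndex C := Nat.pos_of_ne_zero (by
    intro h
    rw [h, mul_zero] at h6
    exact Nat.card_pos.ne h6)
  have h7 : C.relIndex (C ⊔ M) = C.relIndex M := by
    rw [h2] at h4
    have h8 : Nat.card ↥(C ⊓ M) * M.relIndex C * C.relIndex (C ⊔ M) =
        Nat.card ↥(C ⊓ M) * M.relIndex C * C.relIndex M := by
      rw [h6, h3, ← h4, ← h5, ← h6]
      ring
    exact Nat.eq_of_mul_eq_mul_left (Nat.mul_pos hpos hpos2) h8
  rw [← h7]
  exact Dvd.intro _ h1

theorem normal_dvd' [Finite G] (M : Subgroup G) [M.Normal] (x : G) :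
    (Subgroup.centralizer ({x} : Set G)).relIndex M ∣ (Subgroup.centralizer ({x} : Set G)).index :=
  relIndex_dvd_index _ _

theorem subgroupOf_centralizer (M : Subgroup G) (x : M) :
    (Subgroup.centralizer ({(x : G)} : Set G)).subgroupOf M = Subgroup.centralizer ({x} : Set M) := by
  ext y
  rw [Subgroup.mem_subgroupOf, Subgroup.mem_centralizer_singleton_iff, Subgroup.mem_centralizer_singleton_iff]
  constructor
  · intro h
    exact Subtype.ext h
  · intro h
    exact congrArg Subtype.val h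

theorem normal_dvd [Finite G] (M : Subgroup G) [M.Normal] (x : M) :
    (Subgroup.centralizer ({x} : Set M)).index ∣ (Subgroup.centralizer ({(x : G)} : Set G)).index := by
  rw [← subgroupOf_centralizer]
  exact relIndex_dvd_index _ M

theorem surj_dvd {H : Type*} [Group H] {f : G →* H} (hf : Function.Surjective f) (x : G) :
    (Subgroup.centralizer ({f x} : Set H)).index ∣ (Subgroup.centralizer ({x} : Set G)).index := by
  have h1 : (Subgroup.centralizer ({x} : Set G)).map f ≤ Subgroup.centralizer ({f x} : Set H) := by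
    rintro _ ⟨y, hy, rfl⟩
    have hy' := Subgroup.mem_centralizer_singleton_iff.1 hy
    rw [Subgroup.mem_centralizer_singleton_iff, ← map_mul, hy', map_mul]
  exact (Subgroup.index_dvd_of_le h1).trans (Subgroup.index_map_dvd _ hf)

/-- The centralizer of `x` is normal in the normalizer of `⟨x⟩`. -/
theorem relIndex_normalizer_dvd (x : G) :
    (Subgroup.centralizer ({x} : Set G)).relIndex (Subgroup.normalizer (Subgroup.zpowers x : Set G)) ∣
      (Subgroup.centralizer ({x} : Set G)).index := by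
  apply Subgroup.relIndex_dvd_index_of_le
  intro c hc
  have hc' := Subgroup.mem_centralizer_singleton_iff.1 hc
  have hcx : Commute c x := hc'
  rw [Subgroup.mem_normalizer_iff]
  intro y
  constructor
  · rintro ⟨k, rfl⟩
    refine ⟨k, ?_⟩
    have h1 : c * x ^ k = x ^ k * c := (hcx.zpow_right k).eq
    simp only [h1, mul_inv_cancel_right]
  · rintro ⟨k, hk⟩
    refine ⟨k, ?_⟩
    have h1 : c * x ^ k = x ^ k * c := (hcx.zpow_right k).eq
    have h2 : y = c⁻¹ * (c * y * c⁻¹) * c := by group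
    have hk' : x ^ k = c * y * c⁻¹ := hk
    show x ^ k = y
    rw [h2, ← hk', mul_assoc, ← h1, inv_mul_cancel_left]

theorem mem_normalizer_zpowers [Finite G] {x g : G} (h : g * x * g⁻¹ ∈ Subgroup.zpowers x) :
    g ∈ Subgroup.normalizer (Subgroup.zpowers x : Set G) := by
  have h1 : (Subgroup.zpowers x).map (MulAut.conj g).toMonoidHom ≤ Subgroup.zpowers x := by
    rintro _ ⟨y, ⟨k, rfl⟩, rfl⟩
    show g * x ^ k * g⁻¹ ∈ _
    rw [← conj_zpow]
    exact Subgroup.zpow_mem _ h k
  have h2 : (Subgroup.zpowers x).map (MulAut.conj g).toMonoidHom = Subgroup.zpowers x := by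
    apply Subgroup.eq_of_le_of_card_ge h1
    rw [Subgroup.card_map_of_injective (MulAut.conj g).injective]
  rw [Subgroup.mem_normalizer_iff]
  intro y
  constructor
  · intro hy
    rw [← h2]
    exact ⟨y, hy, rfl⟩
  · intro hy
    rw [← h2] at hy
    obtain ⟨z, hz, hzy⟩ := hy
    have : z = y := (MulAut.conj g).injective hzy
    rwa [← this]

/-- If `g` normalises `⟨x⟩`, then `g ^ m` centralises `x`, for some `m` dividing the class size. -/
theorem exists_pow_mem [Finite G] {x g : G} (h : g * x * g⁻¹ ∈ Subgroup.zpowers x) :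
    ∃ m : ℕ, m ∣ (Subgroup.centralizer ({x} : Set G)).index ∧
      g ^ m ∈ Subgroup.centralizer ({x} : Set G) := by
  have hg := mem_normalizer_zpowers h
  set N := Subgroup.normalizer (Subgroup.zpowers x : Set G) with hN
  set C := Subgroup.centralizer ({x} : Set G) with hC
  have hn : (C.subgroupOf N).Normal := by
    constructor
    rintro ⟨c, hc⟩ hcC ⟨n, hn⟩
    rw [Subgroup.mem_subgroupOf] at hcC ⊢
    show n * c * n⁻¹ ∈ C
    have h1 : n⁻¹ * x * n ∈ Subgroup.zpowers x := by
      have := (Subgroup.mem_normalizer_iff.1 hn) (n⁻¹ * x * n)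
      rw [this]
      have e : n * (n⁻¹ * x * n) * n⁻¹ = x := by group
      rw [e]
      exact Subgroup.mem_zpowers x
    obtain ⟨k, hk⟩ := h1
    have hk' : x ^ k = n⁻¹ * x * n := hk
    have hcx : Commute c x := Subgroup.mem_centralizer_singleton_iff.1 hcC
    have h2 : c * x ^ k = x ^ k * c := (hcx.zpow_right k).eq
    rw [hk'] at h2
    rw [hC, Subgroup.mem_centralizer_singleton_iff]
    calc n * c * n⁻¹ * x = n * (c * (n⁻¹ * x * n)) * n⁻¹ := by group
      _ = n * (n⁻¹ * x * n * c) * n⁻¹ := by rw [h2]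
      _ = x * (n * c * n⁻¹) := by group
  refine ⟨C.relIndex N, relIndex_normalizer_dvd x, ?_⟩
  have h3 := Subgroup.pow_index_mem (C.subgroupOf N) (⟨g, hg⟩ : N)
  rw [Subgroup.mem_subgroupOf] at h3
  exact h3

theorem prime_dvd_of_normalizes [Finite G] {p : ℕ} (hp : p.Prime) {x g : G} {k : ℕ} (hgp : g ^ p ^ k = 1)
    (h : g * x * g⁻¹ ∈ Subgroup.zpowers x) (hne : g * x * g⁻¹ ≠ x) :
    p ∣ (Subgroup.centralizer ({x} : Set G)).index := by
  obtain ⟨m, hm, hmC⟩ := exists_pow_mem h
  by_contra hcon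
  have hpm : ¬ p ∣ m := fun h1 => hcon (h1.trans hm)
  have hcop : Nat.Coprime (p ^ k) m := Nat.Coprime.pow_left k ((Nat.Prime.coprime_iff_not_dvd hp).2 hpm)
  have h1 : g ∈ Subgroup.centralizer ({x} : Set G) := by
    have h2 : g ^ p ^ k ∈ Subgroup.centralizer ({x} : Set G) := by rw [hgp]; exact one_mem _
    have h3 := Nat.gcd_eq_gcd_ab (p ^ k) m
    rw [hcop] at h3
    have h4 : g = (g ^ p ^ k) ^ (Nat.gcdA (p ^ k) m) * (g ^ m) ^ (Nat.gcdB (p ^ k) m) := by
      rw [← zpow_natCast g (p ^ k), ← zpow_natCast g m, ← zpow_mul, ← zpow_mul, ← zpow_add, ← h3]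
      simp
    rw [h4]
    exact mul_mem (Subgroup.zpow_mem _ h2 _) (Subgroup.zpow_mem _ hmC _)
  rw [Subgroup.mem_centralizer_singleton_iff] at h1
  exact hne (by rw [h1, mul_inv_cancel_right])

theorem two_dvd_of_inverts [Finite G] {x t : G} (h : t * x * t⁻¹ = x⁻¹) (hne : x⁻¹ ≠ x) :
    2 ∣ (Subgroup.centralizer ({x} : Set G)).index := by
  obtain ⟨m, hm, hmC⟩ := exists_pow_mem (x := x) (g := t) (by rw [h]; exact inv_mem (Subgroup.mem_zpowers x))
  by_contra hcon
  have hodd : Odd m := by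
    rw [← Nat.not_even_iff_odd]
    intro h1
    exact hcon (h1.two_dvd.trans hm)
  have h2 : ∀ j : ℕ, t ^ (2 * j) * x * (t ^ (2 * j))⁻¹ = x := by
    intro j
    induction j with
    | zero => simp
    | succ j ih =>
      have e : t ^ (2 * (j + 1)) = t * t * t ^ (2 * j) := by
        rw [show 2 * (j + 1) = 1 + 1 + 2 * j by ring, pow_add, pow_add, pow_one]
      rw [e]
      calc t * t * t ^ (2 * j) * x * (t * t * t ^ (2 * j))⁻¹
          = t * (t * (t ^ (2 * j) * x * (t ^ (2 * j))⁻¹) * t⁻¹) * t⁻¹ := by group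
        _ = t * x⁻¹ * t⁻¹ := by rw [ih, h]
        _ = (t * x * t⁻¹)⁻¹ := by group
        _ = x := by rw [h, inv_inv]
  obtain ⟨j, hj⟩ := hodd
  rw [Subgroup.mem_centralizer_singleton_iff] at hmC
  have h3 : t ^ m * x * (t ^ m)⁻¹ = x⁻¹ := by
    rw [hj, pow_succ']
    calc t * t ^ (2 * j) * x * (t * t ^ (2 * j))⁻¹ = t * (t ^ (2 * j) * x * (t ^ (2 * j))⁻¹) * t⁻¹ := by group
      _ = x⁻¹ := by rw [h2, h]
  rw [hmC, mul_inv_cancel_right] at h3
  exact hne h3.symm

end Cfsg.Agent.H531.ClassIndex
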