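import Mathlib

/-!
# Covering a finite group by the conjugates of two subgroups

* `card_conj_mul_le` : the set of elements conjugate into `A` has at most
  `|G| |A| / |N(A)|` elements.
* `normalizer_eq_or` : if every element of `G` is conjugate into `A` or into `B`
  then `N(A) = A` or `N(B) = B`.
-/

set_option autoImplicit false

namespace Cfsg.Agent.H531.Cover

variable {G : Type*} [Group G] [Finite G]

/-- The elements conjugate into the subgroup `A`. -/
def conjInto (A : Subgroup G) : Set G := {x | ∃ g : G, g * x * g⁻¹ ∈ A}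

omit [Finite G] in
theorem one_mem_conjInto (A : Subgroup G) : (1 : G) ∈ conjInto A :=
  ⟨1, by simp⟩

theorem card_conj_mul_le (A : Subgroup G) :
    Nat.card (conjInto A) * Nat.card (Subgroup.normalizer (A : Set G)) ≤
      Nat.card G * Nat.card A := by
  classical
  -- an injection `conjInto A × N(A) → G × A`
  have hch : ∀ x : conjInto A, ∃ g : G, g * (x : G) * g⁻¹ ∈ A := fun x => x.2
  choose g hg using hch
  rw [← Nat.card_prod, ← Nat.card_prod]
  refine Nat.card_le_card_of_injective
    (fun y : conjInto A × Subgroup.normalizer (A : Set G) =>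
      ((y.2 : G) * g y.1, (⟨(y.2 : G) * (g y.1 * (y.1 : G) * (g y.1)⁻¹) * (y.2 : G)⁻¹,
        (Subgroup.mem_normalizer_iff.mp y.2.2 _).mp (hg y.1)⟩ : A))) ?_
  rintro ⟨x, n⟩ ⟨x', n'⟩ h
  simp only [Prod.mk.injEq, Subtype.mk.injEq] at h
  obtain ⟨h1, h2⟩ := h
  have hx : (x : G) = x' := by
    have e1 : (n : G) * (g x * (x : G) * (g x)⁻¹) * (n : G)⁻¹
        = ((n : G) * g x) * (x : G) * ((n : G) * g x)⁻¹ := by group
    have e2 : (n' : G) * (g x' * (x' : G) * (g x')⁻¹) * (n' : G)⁻¹
        = ((n' : G) * g x') * (x' : G) * ((n' : G) * g x')⁻¹ := by group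
    rw [e1, e2, h1] at h2
    simpa using h2
  have hx' : x = x' := Subtype.ext hx
  subst hx'
  have : n = n' := Subtype.ext (mul_right_cancel h1)
  rw [this]

theorem two_mul_card_le {A : Subgroup G} (hA : Subgroup.normalizer (A : Set G) ≠ A) :
    2 * Nat.card (conjInto A) ≤ Nat.card G := by
  have h := card_conj_mul_le A
  have hlt : 2 * Nat.card A ≤ Nat.card (Subgroup.normalizer (A : Set G)) := by
    have hle : A ≤ Subgroup.normalizer (A : Set G) := Subgroup.le_normalizer
    have hd := Subgroup.card_dvd_of_le hle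
    obtain ⟨k, hk⟩ := hd
    have hk0 : k ≠ 0 := by
      rintro rfl
      have := Nat.card_pos (α := Subgroup.normalizer (A : Set G))
      omega
    have hk1 : k ≠ 1 := by
      rintro rfl
      apply hA
      exact (Subgroup.eq_of_le_of_card_ge hle (by omega)).symm
    have : 2 ≤ k := by omega
    rw [hk]
    nlinarith [Nat.card_pos (α := A)]
  have hA0 : 0 < Nat.card A := Nat.card_pos
  have h3 : Nat.card (conjInto A) * (2 * Nat.card A) ≤ Nat.card G * Nat.card A :=
    (Nat.mul_le_mul_left _ hlt).trans h
  have : (2 * Nat.card (conjInto A)) * Nat.card A ≤ Nat.card G * Nat.card A := by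
    calc _ = Nat.card (conjInto A) * (2 * Nat.card A) := by ring
      _ ≤ _ := h3
  exact Nat.le_of_mul_le_mul_right this hA0

/-- **Two-subgroup covering**: if every element of a finite group is conjugate into `A` or `B`, then `A` or `B` is its own normaliser. -/
theorem normalizer_eq_or (A B : Subgroup G)
    (h : ∀ x : G, (∃ g : G, g * x * g⁻¹ ∈ A) ∨ (∃ g : G, g * x * g⁻¹ ∈ B)) :
    Subgroup.normalizer (A : Set G) = A ∨ Subgroup.normalizer (B : Set G) = B := by
  by_contra hcon
  push Not at hcon
  have hA := two_mul_card_le hcon.1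
  have hB := two_mul_card_le hcon.2
  have hun : conjInto A ∪ conjInto B = Set.univ := by
    ext x
    simpa [conjInto] using h x
  have hcard : (conjInto A ∪ conjInto B).ncard + (conjInto A ∩ conjInto B).ncard =
      (conjInto A).ncard + (conjInto B).ncard :=
    Set.ncard_union_add_ncard_inter _ _ (Set.toFinite _) (Set.toFinite _)
  rw [hun, Set.ncard_univ] at hcard
  have hpos : 0 < (conjInto A ∩ conjInto B).ncard := by
    rw [Set.ncard_pos (Set.toFinite _)]
    exact ⟨1, one_mem_conjInto A, one_mem_conjInto B⟩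
  rw [← Nat.card_coe_set_eq (conjInto A), ← Nat.card_coe_set_eq (conjInto B)] at hcard
  omega

end Cfsg.Agent.H531.Cover
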