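import Cfsg.Agent.H540.Good
import Cfsg.Agent.H235.TitsIdx
import Cfsg.Agent.H235.TitsRow
import Cfsg.Agent.H867.TitsOut
import Cfsg.Agent.NotCT.Orders

/-!
# `Good` for the Tits group (for helper540, S4199 and S4202)
-/

set_option autoImplicit false

namespace Cfsg.Agent.H531.GoodTits

universe u

/-- **The Tits group.** -/
theorem row (T : Type u) [Group T] [Finite T] [IsSimpleGroup T] (hT : ¬ IsMulCommutative T)
    (h : Cfsg.Lie.IsoTits T) : Cfsg.Agent.H540.Good.Good T := by
  have hZ : Subgroup.center T = ⊥ := by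
    rcases (inferInstance : (Subgroup.center T).Normal).eq_bot_or_eq_top with h1 | h1
    · exact h1
    · exact absurd ⟨⟨fun a b => Subgroup.mem_center_iff.1 (by rw [h1]; trivial : b ∈ Subgroup.center T) a⟩⟩ hT
  have F := H235.TitsRow.facts h
  have hidx : ∀ L : Subgroup T, L ≠ ⊤ → 42 ≤ L.index := fun L hL => F.le_index hL
  have ho := H867.TitsOut.card_out_le h
  have hc := NotCT.Orders.tits h
  have hk := H540.Good.k_le_of_index hZ hidx
  rw [hc] at hk
  exact H540.Good.Good.of_bounds (c := 427886) (o := 2) (L := 42) (by omega) ho hidx (by norm_num)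

end Cfsg.Agent.H531.GoodTits
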