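import Mathlib
import Cfsg.Prelude.Def_Classification2
import Cfsg.Agent.S0205
import Cfsg.Agent.H254.CopAlt
import Cfsg.Agent.H254.CopSpor
import Cfsg.Agent.H531.RMPsl
import Cfsg.Agent.H531.RMPsp
import Cfsg.Agent.H531.RMPsu
import Cfsg.Agent.H531.RMChev
import Cfsg.Agent.H531.RMTw
import Cfsg.Agent.H71.RealMoveTw

/-!
# `RealMove` for the known simple groups: assembly

`known_of` : given the rows of the orthogonal groups.
-/

set_option autoImplicit false

namespace Cfsg.Agent.H531.RMMain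

open Cfsg Cfsg.Agent.H531

universe u v

/-- A finite non-abelian simple group has even order. -/
theorem two_dvd (K : Type u) [Group K] [Finite K] [IsSimpleGroup K] (hna : ¬ IsMulCommutative K) : 2 ∣ Nat.card K := by
  by_contra h
  have hodd : Odd (Nat.card K) := by
    rw [← Nat.not_even_iff_odd, even_iff_two_dvd]
    exact h
  have hs := S0205.result hodd
  apply hna
  refine ⟨⟨fun a b => ?_⟩⟩
  exact (IsSimpleGroup.comm_iff_isSolvable.2 hs) a b

/-- Transport from a model. -/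
theorem of_model {M : Type v} [Group M]
    (h : Finite M → IsSimpleGroup M → ¬ IsMulCommutative M → 2 ∣ Nat.card M → RealMove M)
    (K : Type u) [Group K] [Finite K] [IsSimpleGroup K] (hK : ¬ IsMulCommutative K)
    (e : Nonempty (K ≃* M)) : RealMove K := by
  obtain ⟨e⟩ := e
  have h1 : Finite M := Finite.of_equiv K e.toEquiv
  have hsm : IsSimpleGroup M := e.symm.isSimpleGroup
  have hna : ¬ IsMulCommutative M := by
    intro hc
    apply hK
    refine ⟨⟨fun a b => e.injective ?_⟩⟩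
    rw [map_mul, map_mul]
    exact hc.is_comm.comm _ _
  exact (h h1 hsm hna (by rw [← Nat.card_congr e.toEquiv]; exact two_dvd K hK)).of_equiv e.symm

theorem alternating (K : Type u) [Group K] [Finite K] [IsSimpleGroup K] (hK : ¬ IsMulCommutative K)
    (h : IsAlternating K) : RealMove K := by
  obtain ⟨n, hn, ⟨e⟩⟩ := h
  by_cases h6 : n = 6
  · subst h6
    haveI : Fact (Nat.Prime 3) := ⟨Nat.prime_three⟩
    letI : Fintype (GaloisField 3 2) := Fintype.ofFinite _
    have hF : Fintype.card (GaloisField 3 2) = 9 := by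
      rw [← Nat.card_eq_fintype_card, GaloisField.card 3 2 (by norm_num)]; norm_num
    obtain ⟨e'⟩ := S0254.result (F := GaloisField 3 2) hF
    exact of_model (M := Matrix.ProjectiveSpecialLinearGroup (Fin 2) (GaloisField 3 2))
      (fun _ _ h3 h4 => RMPsl.realMove le_rfl (fun _ => by omega) h3 h4) K hK ⟨e.trans e'.symm⟩
  · exact RealMove.of_copTriv ((H254.Alt.copTriv hn h6).of_equiv e.symm)

/-- The rows of the orthogonal groups. -/
structure OrthRows : Prop where
  odd : ∀ (F : Type) [Field F] [Fintype F] (m : ℕ), 3 ≤ m → Odd (Fintype.card F) →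
    ∀ [Finite (Cfsg.POmega F (Cfsg.quadFormOdd m F))] [IsSimpleGroup (Cfsg.POmega F (Cfsg.quadFormOdd m F))],
    ¬ IsMulCommutative (Cfsg.POmega F (Cfsg.quadFormOdd m F)) →
    2 ∣ Nat.card (Cfsg.POmega F (Cfsg.quadFormOdd m F)) → RealMove (Cfsg.POmega F (Cfsg.quadFormOdd m F))
  plus : ∀ (F : Type) [Field F] [Fintype F] (m : ℕ), 4 ≤ m →
    ∀ [Finite (Cfsg.POmega F (Cfsg.quadFormPlus m F))] [IsSimpleGroup (Cfsg.POmega F (Cfsg.quadFormPlus m F))],
    ¬ IsMulCommutative (Cfsg.POmega F (Cfsg.quadFormPlus m F)) →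
    2 ∣ Nat.card (Cfsg.POmega F (Cfsg.quadFormPlus m F)) → RealMove (Cfsg.POmega F (Cfsg.quadFormPlus m F))
  minus : ∀ (F : Type) [Field F] [Fintype F] (m : ℕ), 4 ≤ m → ∀ a b : F,
    (∀ z₁ z₂ : F, z₁ ^ 2 + a * z₁ * z₂ + b * z₂ ^ 2 = 0 → z₁ = 0 ∧ z₂ = 0) →
    ∀ [Finite (Cfsg.POmega F (Cfsg.quadFormMinus (m - 1) F a b))]
      [IsSimpleGroup (Cfsg.POmega F (Cfsg.quadFormMinus (m - 1) F a b))],
    ¬ IsMulCommutative (Cfsg.POmega F (Cfsg.quadFormMinus (m - 1) F a b)) →
    2 ∣ Nat.card (Cfsg.POmega F (Cfsg.quadFormMinus (m - 1) F a b)) →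
    RealMove (Cfsg.POmega F (Cfsg.quadFormMinus (m - 1) F a b))

/-- **`RealMove` for the known non-abelian simple groups.** -/
theorem known_of (H : OrthRows) (K : Type u) [Group K] [Finite K] [IsSimpleGroup K] (hna : ¬ IsMulCommutative K)
    (hk : IsKnownSimple' K) : RealMove K := by
  rcases hk with hk | hk | hk | hk | hk | hk | hk | hk | hk | hk
  · exfalso
    apply hna
    have h1 : Fact (Nat.card K).Prime := ⟨hk⟩
    have h2 : IsCyclic K := isCyclic_of_prime_card (p := Nat.card K) rfl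
    exact IsCyclic.isMulCommutative
  · exact alternating K hna hk
  · obtain ⟨F, _, _, n, hn, h4, e⟩ := hk
    exact of_model (fun _ _ h1 h2 => RMPsl.realMove hn h4 h1 h2) K hna e
  · obtain ⟨F, _, _, m, hm, h3, e⟩ := hk
    exact of_model (fun _ _ h1 h2 => RMPsp.realMove hm h3 h1 h2) K hna e
  · obtain ⟨F, _, _, n, q, hF, hn, h32, e⟩ := hk
    exact of_model (fun _ _ h1 h2 => RMPsu.realMove hF hn h32 h1 h2) K hna e
  · obtain ⟨F, _, _, m, hm, hodd, e⟩ := hk
    exact of_model (fun _ _ h1 h2 => H.odd F m hm hodd h1 h2) K hna e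
  · obtain ⟨F, _, _, m, hm, e⟩ := hk
    exact of_model (fun _ _ h1 h2 => H.plus F m hm h1 h2) K hna e
  · obtain ⟨F, _, _, m, a, b, hm, hab, e⟩ := hk
    exact of_model (fun _ _ h1 h2 => H.minus F m hm a b hab h1 h2) K hna e
  · rcases hk with hk | hk | hk | hk | hk | hk | hk | hk | hk | hk | hk
    · obtain ⟨F, _, _, h3, e⟩ := hk
      exact of_model (fun _ _ _ h2 => RMChev.realMove (by simp) (H967.CopChev.row_g2 h3) h2) K hna e
    · obtain ⟨F, _, _, e⟩ := hk
      exact of_model (fun _ _ _ h2 => RMChev.realMove (by simp) H967.CopChev.row_f4 h2) K hna e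
    · obtain ⟨F, _, _, e⟩ := hk
      exact of_model (fun _ _ _ h2 => RMChev.realMove (by simp) H967.CopChev.row_e6 h2) K hna e
    · obtain ⟨F, _, _, e⟩ := hk
      exact of_model (fun _ _ _ h2 => RMChev.realMove (by simp) H967.CopChev.row_e7 h2) K hna e
    · obtain ⟨F, _, _, e⟩ := hk
      exact of_model (fun _ _ _ h2 => RMChev.realMove (by simp) H967.CopChev.row_e8 h2) K hna e
    · obtain ⟨F, _, _, q, hq, hF, e⟩ := hk
      exact of_model (fun _ _ _ h2 => RMTw.realMove_2e6 hq hF (Schreier.TwESix.sch hq hF) h2) K hna e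
    · obtain ⟨F, _, _, q, hq, hF, e⟩ := hk
      exact of_model (fun _ _ _ _ => RMTw.realMove_d4 hq hF) K hna e
    · obtain ⟨F, _, _, m, hm, hF, e⟩ := hk
      exact of_model (fun _ _ _ _ => H71.RealMoveTw.realMove_sz hm hF) K hna e
    · obtain ⟨F, _, _, m, hm, hF, e⟩ := hk
      exact of_model (fun _ _ _ _ => H71.RealMoveTw.realMove_ree hm hF) K hna e
    · obtain ⟨F, _, _, m, hm, hF, e⟩ := hk
      exact of_model (fun _ _ _ _ => H71.RealMoveTw.realMove_tf4 hm hF) K hna e
    · exact RealMove.of_copTriv (H254.CopSpor.tits_triv hk)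
  · exact RealMove.of_copTriv (H254.CopSpor.sporadic_triv hk)

end Cfsg.Agent.H531.RMMain
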